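import Cfsg.Agent.Lib.Sporadic.U43InSU62.Code

/-!
# Finite facts about blocks of three coordinates
-/

set_option autoImplicit false
set_option maxRecDepth 100000
set_option maxHeartbeats 0
set_option synthInstance.maxHeartbeats 400000
set_option synthInstance.maxSize 2000

namespace CfsgLib.Sporadic.U43InSU62

open FieldFour

/-- The first block of a candidate. -/
def cJ (j : Fin 4) : Matrix (Fin 3) (Fin 3) FieldFour := if j.val = 0 then 1 else m3 (9 + j.val)

/-- The second block is the same matrix. -/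
theorem cJ_right : ∀ j : Fin 4, j.val = 0 ∨ (m3 (12 + j.val) = cJ j) := by decide +kernel

theorem pos_blocks : (∀ j : Fin 4, j.val = 0 ∨ ∀ i : Fin 3,
    pos (9 + j.val) i = Fin.castAdd 3 i ∧ pos (12 + j.val) i = Fin.natAdd 3 i) ∧
    ∀ i : Fin 3, pos 9 i = Fin.castAdd 3 i := by decide +kernel

/-- A vector is monomial for a block. -/
def MonoVec (j : Fin 4) (v : Fin 3 → FieldFour) : Prop :=
  ∃ k : Fin 3, ∀ i : Fin 3, i ≠ k →
    frob (cJ j 0 i) * v 0 + frob (cJ j 1 i) * v 1 + frob (cJ j 2 i) * v 2 = 0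

theorem unit_mono : ∀ a b c : FieldFour, a * a * a + b * b * b + c * c * c = 1 →
    ∃ j : Fin 4, MonoVec j ![a, b, c] := by unfold MonoVec; decide +kernel

theorem orth_mono : ∀ a b c : FieldFour, a * a * a + b * b * b + c * c * c = 1 → ∀ d e f : FieldFour,
    d * d * d + e * e * e + f * f * f = 1 → frob a * d + frob b * e + frob c * f = 0 →
    ∀ j : Fin 4, MonoVec j ![a, b, c] → MonoVec j ![d, e, f] := by unfold MonoVec; decide +kernel

theorem block_const : ∀ a b c d e f : FieldFour, a * b * c * d * e * f = 1 →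
    (∃ z : FieldFour, c = z * a ∧ a = z * b ∧ b = z * c ∧ d = z * d ∧ e = z * e ∧ f = z * f) →
    (∃ z : FieldFour, a = z * a ∧ b = z * b ∧ c = z * c ∧ f = z * d ∧ d = z * e ∧ e = z * f) →
    a = b ∧ b = c ∧ d = e ∧ e = f := by decide +kernel

/-- Two blocks. -/
def bd (i j : Fin 4) (a b : Fin 6) : FieldFour :=
  if ha : a.val < 3 then (if hb : b.val < 3 then cJ i ⟨a.val, ha⟩ ⟨b.val, hb⟩ else 0)
  else if hb : b.val < 3 then 0 else cJ j ⟨a.val - 3, by omega⟩ ⟨b.val - 3, by omega⟩

/-- The letters of a candidate without the transposition. -/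
def candB (i j : Fin 4) : List ℕ :=
  (bif Nat.beq i.val 0 then [] else [9 + i.val]) ++ (bif Nat.beq j.val 0 then [] else [12 + j.val])

theorem cand_val : ∀ i j : Fin 4, ∀ a b : Fin 6,
    CfsgLib.Sporadic.OutCert.lk 2 (wordK (candB i j)) (6 * a.val + b.val) = code (bd i j a b) := by decide +kernel

end CfsgLib.Sporadic.U43InSU62
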