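import Cfsg.Agent.Lib.Sporadic.U43InSU62.Code
import Cfsg.Agent.Lib.Schur.PSUFourThree.Data

/-!
# Kernel checks for three subgroups `3.U₄(3)` of `SU₆(2)`
-/

set_option autoImplicit false
set_option maxRecDepth 100000
set_option maxHeartbeats 0

open CfsgLib.Sporadic.OutCert

namespace CfsgLib.Sporadic.U43InSU62

open FieldFour

/-- The word of a torus element with given exponents in base three. -/
noncomputable def tw (n : ℕ) : List ℕ :=
  List.replicate (n % 3) 0 ++ List.replicate (n / 3 % 3) 1 ++ List.replicate (n / 9 % 3) 2 ++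
    List.replicate (n / 27 % 3) 3 ++ List.replicate (n / 81 % 3) 4

/-- The exponent of a nonzero code. -/
def lgC (a : ℕ) : ℕ := a - 1

/-- The exponents of a diagonal element. -/
def decN (a b c d e : ℕ) : ℕ :=
  lgC a % 3 + 3 * ((lgC a + lgC b) % 3) + 9 * ((lgC a + lgC b + lgC c) % 3) +
    27 * ((lgC a + lgC b + lgC c + lgC d) % 3) + 81 * ((lgC a + lgC b + lgC c + lgC d + lgC e) % 3)

/-- The code of the diagonal of a word is read off. -/
noncomputable def diagOK (n : ℕ) : Bool :=
  let M := wordK (tw n)
  allF (fun k => bif Nat.beq (k / 6) (k % 6) then Nat.ble 1 (lk 2 M k) else Nat.beq (lk 2 M k) 0) 36 &&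
    Nat.beq (decN (lk 2 M 0) (lk 2 M 7) (lk 2 M 14) (lk 2 M 21) (lk 2 M 28)) n

theorem diag_ok : allF diagOK 243 = true := by decide +kernel

theorem diag_cover : ∀ a b c d e f : FieldFour, a * b * c * d * e * f = 1 →
    decN (code a) (code b) (code c) (code d) (code e) < 243 ∧
    (let M := wordK (tw (decN (code a) (code b) (code c) (code d) (code e)))
     lk 2 M 0 = code a ∧ lk 2 M 7 = code b ∧ lk 2 M 14 = code c ∧ lk 2 M 21 = code d ∧ lk 2 M 28 = code e ∧
       lk 2 M 35 = code f) := by decide +kernel

/-- A vector applied to. -/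
def mvE (M v i : ℕ) : ℕ :=
  let t := fun k => mulC (lk 2 M (6 * i + k)) (lk 2 v k)
  Nat.xor (Nat.xor (Nat.xor (Nat.xor (Nat.xor (t 0) (t 1)) (t 2)) (t 3)) (t 4)) (t 5)

/-- The image of a vector. -/
noncomputable def mvK (M v : ℕ) : ℕ := pkF 2 (fun i => mvE M v i) 6 0

/-- A multiple of a vector. -/
noncomputable def smK (c v : ℕ) : ℕ := pkF 2 (fun i => mulC c (lk 2 v i)) 6 0

/-- A vector of a frame. -/
def fvN (l i k : ℕ) : ℕ := lk 12 (Data.fvK.getD l 0) (6 * i + k)

/-- The frame of a vector. -/
def foN (l v : ℕ) : ℕ := lk 7 (Data.foK.getD l 0) v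

/-- A generator on the frames. -/
def pmN (l m i : ℕ) : ℕ := lk 7 ((Data.permK.getD l []).getD m 0) i

/-- The standard frame. -/
def zN (l : ℕ) : ℕ := Data.zK.getD l 0

/-- A local letter in the global ones. -/
def locW (l m : ℕ) : List ℕ := bif Nat.beq m 9 then Data.rK.getD l [] else [m]

/-- A local word in the global letters. -/
noncomputable def expW (r : List ℕ) (w : List ℕ) : List ℕ :=
  List.rec (motive := fun _ => List ℕ) [] (fun m _ ih => (bif Nat.beq m 9 then r else [m]) ++ ih) w

/-- A generator maps frames as stated. -/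
noncomputable def moveOK (l m : ℕ) : Bool :=
  let M := wordK (locW l m)
  allF (fun i => Nat.blt (pmN l m i) 112 && allF (fun k =>
    (List.range 6).any fun k' => (List.range 3).any fun c =>
      Nat.beq (mvK M (fvN l i k)) (smK (c + 1) (fvN l (pmN l m i) k'))) 6) 112

theorem moves0 : allF (moveOK 0) 10 = true := by decide +kernel

theorem moves1 : allF (moveOK 1) 10 = true := by decide +kernel

theorem moves2 : allF (moveOK 2) 10 = true := by decide +kernel

/-- The table of frames is sound. -/
noncomputable def frameOK (l : ℕ) : Bool :=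
  Nat.blt (zN l) 112 && allF (fun k => Nat.beq (fvN l (zN l) k) (4 ^ k)) 6 &&
    allF (fun i => allF (fun k => allF (fun c => Nat.beq (foN l (smK (c + 1) (fvN l i k))) i) 3) 6) 112

theorem frames_ok : allF frameOK 3 = true := by decide +kernel

/-- Torus elements fixing every frame are scalar. -/
noncomputable def torusOK (l : ℕ) : Bool :=
  allF (fun n =>
    let M := wordK (tw n)
    (allF (fun k => Nat.beq (lk 2 M (7 * k)) (lk 2 M 0)) 6) ||
      (List.range 112).any fun i => !Nat.beq (foN l (mvK M (fvN l i 0))) i) 243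

theorem torus_ok : allF torusOK 3 = true := by decide +kernel

/-- The torus fixes no further frame. -/
noncomputable def onlyOK (l : ℕ) : Bool :=
  allF (fun i => Nat.beq i (zN l) || (List.range 5).any fun m => !Nat.beq (pmN l m i) i) 112

theorem only_ok : allF onlyOK 3 = true := by decide +kernel

/-- The image of a line under a word in the generators of `PSU₄(3)`. -/
noncomputable def lineImg (w : List ℕ) (i : ℕ) : ℕ :=
  List.rec (motive := fun _ => ℕ) i
    (fun m _ ih => lk 7 (CfsgLib.Schur.PSUFourThree.baseK.getD m 0) ih) w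

/-- The image of a frame under a local word. -/
noncomputable def frameImg (l : ℕ) (w : List ℕ) (i : ℕ) : ℕ :=
  List.rec (motive := fun _ => ℕ) i (fun m _ ih => pmN l m ih) w

/-- The generators of `PSU₄(3)` are words. -/
noncomputable def downOK (l : ℕ) : Bool :=
  allF (fun a =>
    let w := (Data.downK.getD l []).getD a []
    w.all (fun m => Nat.blt m 10) &&
      allF (fun i => Nat.beq (frameImg l w i) (lk 7 (CfsgLib.Schur.PSUFourThree.baseK.getD a 0) i)) 112) 2

theorem down_ok : allF downOK 3 = true := by decide +kernel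

/-- The generators are words in those of `PSU₄(3)`. -/
noncomputable def upOK (l : ℕ) : Bool :=
  allF (fun m =>
    let w := (Data.upK.getD l []).getD m []
    w.all (fun a => Nat.blt a 2) && allF (fun i => Nat.beq (lineImg w i) (pmN l m i)) 112) 10

theorem up_ok : allF upOK 3 = true := by decide +kernel

theorem reach_ok : allF (fun i =>
    (Data.reachK.getD i []).all (fun a => Nat.blt a 2) &&
      Nat.beq (lineImg (Data.reachK.getD i []) 0) i) 112 = true := by decide +kernel

/-- Equal products of letters. -/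
noncomputable def eqW (u w : List ℕ) : Bool := Nat.beq (wordK u) (wordK w)

/-- Local letters. -/
def okW (b : ℕ) (w : List ℕ) : Bool := w.all fun m => Nat.blt m b

theorem bad_ok : Data.badK.all (fun x => okW 10 x.2.1 && okW 10 x.2.2.1 && okW 9 x.2.2.2 &&
    eqW (expW x.1 x.2.1) (expW x.1 x.2.2.1 ++ x.2.2.2 ++ [9])) = true := by decide +kernel

theorem good_ok : Data.goodK.all (fun x => Nat.blt x.2.1 3 && okW 10 x.2.2 &&
    eqW (Data.rK.getD x.2.1 []) (expW x.1 x.2.2)) = true := by decide +kernel

theorem tau_ok : allF (fun l => okW 10 (Data.tauK.getD l []) &&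
    eqW ([9] ++ Data.rK.getD l [] ++ [9]) (expW (Data.rK.getD l []) (Data.tauK.getD l []))) 3 = true := by
  decide +kernel

/-- A word with two additional generators. -/
noncomputable def expW2 (r s : List ℕ) (w : List ℕ) : List ℕ :=
  List.rec (motive := fun _ => List ℕ) []
    (fun m _ ih => (bif Nat.beq m 9 then r else bif Nat.beq m 10 then s else [m]) ++ ih) w

theorem pair_ok : Data.pairK.all (fun x => okW 11 x.2.2.1 && okW 11 x.2.2.2.1 && okW 9 x.2.2.2.2 &&
    eqW (expW2 (Data.rK.getD x.1 []) (Data.rK.getD x.2.1 []) x.2.2.1)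
      (expW2 (Data.rK.getD x.1 []) (Data.rK.getD x.2.1 []) x.2.2.2.1 ++ x.2.2.2.2 ++ [9])) = true := by
  decide +kernel

theorem pair_cover : ∀ l m : Fin 3, l < m → ∃ x ∈ Data.pairK, x.1 = l.val ∧ x.2.1 = m.val := by decide +kernel

/-- The letters of a candidate. -/
def candW (i j : ℕ) (t : Bool) : List ℕ :=
  (bif Nat.beq i 0 then [] else [9 + i]) ++ ((bif Nat.beq j 0 then [] else [12 + j]) ++ bif t then [9] else [])

theorem cand_cover : ∀ i j : Fin 4, ∀ t : Bool, (i.val = 0 ∧ j.val = 0) ∨
    candW i j t ∈ Data.badK.map (fun x => x.1) ∨ candW i j t ∈ Data.goodK.map (fun x => x.1) := by decide +kernel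

/-- The certificate for commuting lifts at one torus generator. -/
noncomputable def commOK (k : ℕ) : Bool :=
  let c := Data.commK.getD k ([], [])
  let ys := [k] :: Data.scalK :: c.1.map (fun y => y.1)
  eqW [k, k, k] [] &&
  c.1.all (fun y => okW 5 y.1 && y.2.all (fun m => Nat.ble 5 m && Nat.blt m 9) &&
    eqW (y.2 ++ [k]) ([k, k] ++ y.2) && eqW (y.2 ++ y.1) (y.1 ++ y.2)) &&
  !c.1.isEmpty &&
  allF (fun m => (c.2.getD m []).all (fun a => Nat.blt a ys.length) &&
    eqW [m] ((c.2.getD m []).flatMap fun a => ys.getD a [])) 5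

theorem comm_ok : allF commOK 5 = true := by decide +kernel

theorem scal_ok : okW 5 Data.scalK = true ∧ okW 5 Data.t0K = true ∧
    allF (fun k => bif Nat.beq (k / 6) (k % 6) then Nat.beq (lk 2 (wordK Data.scalK) k) 2
      else Nat.beq (lk 2 (wordK Data.scalK) k) 0) 36 = true ∧
    allF (fun k => bif Nat.beq (k / 6) (k % 6) then Nat.beq (lk 2 (wordK Data.t0K) k) (bif Nat.blt (k / 6) 3 then 1 else 2)
      else Nat.beq (lk 2 (wordK Data.t0K) k) 0) 36 = true := by decide +kernel

/-- The number of torus elements fixed by a power product of the two block rotations. -/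
noncomputable def fixCount (i j : ℕ) : ℕ :=
  ((List.range 243).filter fun n =>
    let M := wordK (tw n)
    allF (fun k => Nat.beq (lk 2 M (7 * k)) (lk 2 M (7 * (bif Nat.blt k 3 then (k + i) % 3 else 3 + (k + j) % 3))))
      6).length

theorem fix_counts : ∀ i j : Fin 3, (i.val, j.val) ≠ (0, 0) →
    fixCount i j ≤ 27 ∧ (i.val ≠ 0 → j.val ≠ 0 → fixCount i j ≤ 9) := by decide +kernel

end CfsgLib.Sporadic.U43InSU62
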