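import Cfsg.Agent.Lib.Sporadic.FieldFour
import Cfsg.Agent.Lib.Sporadic.OutCert.Perm
import Cfsg.Agent.Lib.Sporadic.U43InSU62.Data
import Cfsg.Agent.Lib.KnownB.Phan.Emb

/-!
# Elements of `SU₆(2)` written as numbers
-/

set_option autoImplicit false
set_option maxRecDepth 100000

open Matrix CfsgLib.Sporadic.OutCert

namespace CfsgLib.Sporadic.U43InSU62

open FieldFour

/-- The group. -/
abbrev S6 : Type := ↥(Cfsg.SU 6 FieldFour 2)

/-- An entry. -/
abbrev ent (g : S6) (i j : Fin 6) : FieldFour := (g.1 : Matrix (Fin 6) (Fin 6) FieldFour) i j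

/-- The conjugation. -/
def frob : FieldFour →+* FieldFour where
  toFun x := x * x
  map_one' := by decide
  map_mul' := by decide
  map_zero' := by decide
  map_add' := by decide

theorem frob_pow (x : FieldFour) : frob x = x ^ 2 := (sq x).symm

/-- Multiplication of codes. -/
def mulC (a b : ℕ) : ℕ := lk 2 0x9c78e400 (4 * a + b)

theorem code_mul : ∀ x y : FieldFour, code (x * y) = mulC (code x) (code y) := by decide +kernel

theorem code_add : ∀ x y : FieldFour, code (x + y) = Nat.xor (code x) (code y) := by decide +kernel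

theorem code_lt' : ∀ x : FieldFour, code x < 4 := by decide +kernel

theorem code_inj : ∀ x y : FieldFour, code x = code y → x = y := by decide +kernel

/-- An entry of a product of codes. -/
def dotC (M N i j : ℕ) : ℕ :=
  let t := fun k => mulC (lk 2 M (6 * i + k)) (lk 2 N (6 * k + j))
  Nat.xor (Nat.xor (Nat.xor (Nat.xor (Nat.xor (t 0) (t 1)) (t 2)) (t 3)) (t 4)) (t 5)

/-- The product of codes. -/
noncomputable def mulK (M N : ℕ) : ℕ := pkF 2 (fun n => dotC M N (n / 6) (n % 6)) 36 0

/-- The code of the identity. -/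
noncomputable def idK : ℕ := pkF 2 (fun n => bif Nat.beq (n / 6) (n % 6) then 1 else 0) 36 0

/-- A code of an element. -/
def MRep (M : ℕ) (g : S6) : Prop := ∀ i j : Fin 6, lk 2 M (6 * i.val + j.val) = code (ent g i j)

theorem MRep.eq {M : ℕ} {g h : S6} (hg : MRep M g) (hh : MRep M h) : g = h :=
  Subtype.ext (Subtype.ext (Matrix.ext fun i j => code_inj _ _ ((hg i j).symm.trans (hh i j))))

theorem lk_pkF {f : ℕ → ℕ} {n : ℕ} (hf : ∀ k < n, f k < 2 ^ 2) {k : ℕ} (hk : k < n) :
    lk 2 (pkF 2 f n 0) k = f k := by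
  rw [pkF_range, lk_pk 2 (fun x hx => ?_) (by simpa using hk)]
  · simp
  · obtain ⟨a, ha, rfl⟩ := List.mem_map.1 hx
    exact hf a (List.mem_range.1 ha)

theorem idx_div (i j : Fin 6) : (6 * i.val + j.val) / 6 = i.val ∧ (6 * i.val + j.val) % 6 = j.val := by
  omega

theorem mulC_lt (a b : ℕ) : mulC a b < 4 := Nat.mod_lt _ (by norm_num)

theorem xor_lt {a b : ℕ} (ha : a < 4) (hb : b < 4) : Nat.xor a b < 4 :=
  Nat.xor_lt_two_pow (n := 2) ha hb

theorem dotC_lt (M N i j : ℕ) : dotC M N i j < 4 :=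
  xor_lt (xor_lt (xor_lt (xor_lt (xor_lt (mulC_lt _ _) (mulC_lt _ _)) (mulC_lt _ _)) (mulC_lt _ _))
    (mulC_lt _ _)) (mulC_lt _ _)

theorem MRep.mul {M N : ℕ} {g h : S6} (hg : MRep M g) (hh : MRep N h) : MRep (mulK M N) (g * h) := by
  intro i j
  rw [mulK, lk_pkF (fun k _ => dotC_lt _ _ _ _) (by omega), (idx_div i j).1, (idx_div i j).2,
    show ent (g * h) i j = ∑ k, ent g i k * ent h k j from Matrix.mul_apply, Fin.sum_univ_six]
  simp only [code_add, code_mul, ← hg i _, ← hh _ j]
  rfl

theorem idK_rep : MRep idK 1 := by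
  intro i j
  rw [idK, lk_pkF (fun k _ => by cases Nat.beq (k / 6) (k % 6) <;> decide) (by omega), (idx_div i j).1,
    (idx_div i j).2, show ent (1 : S6) i j = (1 : Matrix (Fin 6) (Fin 6) FieldFour) i j from rfl, Matrix.one_apply]
  revert i j
  decide

/-- A small block. -/
def m3 (k : ℕ) : Matrix (Fin 3) (Fin 3) FieldFour :=
  Matrix.of fun i j => ofCode (Fin.ofNat 4 ((Data.su3K.getD k []).getD (3 * i.val + j.val) 0))

/-- The coordinates of a small block. -/
def pos (k : ℕ) (i : Fin 3) : Fin 6 := Fin.ofNat 6 ((Data.posEmb.getD k []).getD i.val 0)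

theorem pos_inj : ∀ k : Fin 16, ∀ i j, pos k i = pos k j → i = j := by decide +kernel

/-- The coordinates of a small block, as an embedding. -/
def posE (k : Fin 16) : Fin 3 ↪ Fin 6 := ⟨pos k, fun i j h => pos_inj k i j h⟩

theorem m3_det : ∀ k : Fin 16, (m3 k).det = 1 := by decide +kernel

theorem m3_unitary : ∀ k : Fin 16, ((m3 k).map frob)ᵀ * m3 k = 1 := by decide +kernel

/-- A small block in `SU₃(2)`. -/
noncomputable def blk (k : Fin 16) : Cfsg.SU 3 FieldFour 2 :=
  ⟨⟨m3 k, m3_det k⟩, (CfsgLib.SUPres.mem_SU_iff_matrix frob_pow _).2 (m3_unitary k)⟩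

/-- The letters. -/
noncomputable def letr (k : Fin 16) : S6 := Phan.emb frob_pow (posE k) (blk k)

/-- A code of a letter. -/
def codeL (k : ℕ) : ℕ := Data.genK.getD k 0

theorem letr_val : ∀ k : Fin 16, ∀ i j : Fin 6, lk 2 (codeL k) (6 * i.val + j.val) =
    code ((1 + CfsgLib.Classical.incMat FieldFour (pos k) * (m3 k - 1) *
      (CfsgLib.Classical.incMat FieldFour (pos k))ᵀ : Matrix (Fin 6) (Fin 6) FieldFour) i j) := by decide +kernel

theorem letr_rep (k : Fin 16) : MRep (codeL k) (letr k) := letr_val k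

/-- The element of a word. -/
noncomputable def wd (w : List (Fin 16)) : S6 := (w.map letr).prod

/-- A word over the letters. -/
def lets (w : List ℕ) : List (Fin 16) := w.map fun k => Fin.ofNat 16 k

/-- The element of a word in numbers. -/
noncomputable def el (w : List ℕ) : S6 := wd (lets w)

/-- The code of a word. -/
noncomputable def wordK (w : List ℕ) : ℕ :=
  List.rec (motive := fun _ => ℕ) idK (fun k _ ih => mulK (codeL (k % 16)) ih) w

theorem el_nil : el [] = 1 := rfl

theorem el_cons (k : ℕ) (w : List ℕ) : el (k :: w) = letr (Fin.ofNat 16 k) * el w := by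
  simp [el, wd, lets]

theorem el_append (u w : List ℕ) : el (u ++ w) = el u * el w := by
  simp [el, wd, lets, List.map_append, List.prod_append]

theorem el_rep : ∀ w : List ℕ, MRep (wordK w) (el w)
  | [] => idK_rep
  | k :: w => by
    rw [el_cons]
    exact (letr_rep (Fin.ofNat 16 k)).mul (el_rep w)

theorem el_eq {u w : List ℕ} (h : Nat.beq (wordK u) (wordK w) = true) : el u = el w :=
  (el_rep u).eq (Nat.eq_of_beq_eq_true h ▸ el_rep w)

end CfsgLib.Sporadic.U43InSU62
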