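import Cfsg.Agent.Lib.Sporadic.U43InSU62.Sylow

/-!
# Lifts of the torus in a triple cover commute
-/

set_option autoImplicit false
set_option maxRecDepth 100000

open Matrix CfsgLib.Sporadic.OutCert Equiv
open scoped commutatorElement

namespace CfsgLib.Sporadic.U43InSU62

/-- A subgroup with centre of order three and quotient the model of `PSU₄(3)`. -/
structure Cover (K : Subgroup S6) where
  /-- The map onto the model. -/
  χ : K →* Perm (Fin 112)
  range_eq : χ.range = RG
  ker_eq : χ.ker = Subgroup.center K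
  card_centre : Nat.card (Subgroup.center K) = 3

namespace Cover

variable {K : Subgroup S6} (C : Cover K)

theorem ker_comm {z : K} (hz : C.χ z = 1) (x : K) : Commute z x := by
  have h : z ∈ Subgroup.center K := C.ker_eq ▸ MonoidHom.mem_ker.2 hz
  exact (Subgroup.mem_center_iff.1 h x).symm

theorem ker_cube {z : K} (hz : C.χ z = 1) : z ^ 3 = 1 := by
  have h : z ∈ Subgroup.center K := C.ker_eq ▸ MonoidHom.mem_ker.2 hz
  have := pow_card_eq_one' (x := (⟨z, h⟩ : Subgroup.center K))
  rw [C.card_centre] at this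
  exact congrArg Subtype.val this

theorem exists_lift (x : Kg 0) : ∃ u : K, C.χ u = theta 0 x := by
  have h : theta 0 x ∈ C.χ.range := by rw [C.range_eq, ← range_theta 0]; exact ⟨x, rfl⟩
  exact h

include C in
theorem card_K : Nat.card K = 3 * 3265920 := by
  rw [← C.χ.ker.card_mul_index, C.ker_eq, C.card_centre, ← C.ker_eq, Subgroup.index_ker, C.range_eq, card_RG]

/-- All lifts commute. -/
def LiftComm (x y : Kg 0) : Prop := ∀ u v : K, C.χ u = theta 0 x → C.χ v = theta 0 y → Commute u v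

theorem liftComm_symm {x y : Kg 0} (h : C.LiftComm x y) : C.LiftComm y x := fun u v hu hv => (h v u hv hu).symm

/-- The elements whose lifts commute with those of a given one. -/
def commGrp (x : Kg 0) : Subgroup (Kg 0) where
  carrier := {y | C.LiftComm x y}
  one_mem' := fun u v _ hv => (C.ker_comm (hv.trans (map_one _)) u).symm
  mul_mem' := fun {y y'} hy hy' u v hu hv => by
    obtain ⟨a, ha⟩ := C.exists_lift y
    obtain ⟨b, hb⟩ := C.exists_lift y'
    have hz : C.χ (v * (a * b)⁻¹) = 1 := by rw [map_mul, map_inv, map_mul, ha, hb, hv, map_mul, mul_inv_cancel]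
    have := ((C.ker_comm hz u).symm).mul_right ((hy u a hu ha).mul_right (hy' u b hu hb))
    rwa [inv_mul_cancel_right] at this
  inv_mem' := fun {y} hy u v hu hv => by
    have := hy u v⁻¹ hu (by rw [map_inv, hv, map_inv, inv_inv])
    exact Commute.inv_right_iff.1 this

theorem central_bracket {a b z z' : K} (hz : ∀ w, Commute z w) (hz' : ∀ w, Commute z' w) :
    ⁅z * a, z' * b⁆ = ⁅a, b⁆ := by
  have e1 : ⁅z * a, z' * b⁆ = z * ⁅a, z' * b⁆ * z⁻¹ * ⁅z, z' * b⁆ := by simp only [commutatorElement_def]; group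
  have e2 : ⁅a, z' * b⁆ = ⁅a, z'⁆ * (z' * ⁅a, b⁆ * z'⁻¹) := by simp only [commutatorElement_def]; group
  rw [e1, commutatorElement_eq_one_iff_commute.2 (hz _), mul_one, (hz _).eq, mul_inv_cancel_right, e2,
    commutatorElement_eq_one_iff_commute.2 (hz' a).symm, one_mul, (hz' _).eq, mul_inv_cancel_right]

theorem invert_comm {n x y : Kg 0} (hn : n * x * n⁻¹ = x⁻¹) (hy : n * y * n⁻¹ = y) (hxy : Commute x y) :
    C.LiftComm x y := by
  intro u v hu hv
  obtain ⟨N, hN⟩ := C.exists_lift n
  have hθ : theta 0 x * theta 0 y = theta 0 y * theta 0 x := (hxy.map (theta 0)).eq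
  have hc : C.χ ⁅u, v⁆ = 1 := by
    rw [map_commutatorElement, hu, hv, commutatorElement_eq_one_iff_commute]
    exact hθ
  have hz : C.χ (N * u * N⁻¹ * u) = 1 := by
    rw [map_mul, map_mul, map_mul, map_inv, hN, hu, ← map_inv, ← map_mul, ← map_mul, ← map_mul, hn,
      inv_mul_cancel, map_one]
  have hz' : C.χ (N * v * N⁻¹ * v⁻¹) = 1 := by
    rw [map_mul, map_mul, map_mul, map_inv, map_inv, hN, hv, ← map_inv, ← map_inv, ← map_mul, ← map_mul, ← map_mul,
      hy, mul_inv_cancel, map_one]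
  have e1 : N * ⁅u, v⁆ * N⁻¹ = ⁅u, v⁆ := by rw [← (C.ker_comm hc N).eq, mul_inv_cancel_right]
  have e2 : N * ⁅u, v⁆ * N⁻¹ = ⁅(N * u * N⁻¹ * u) * u⁻¹, (N * v * N⁻¹ * v⁻¹) * v⁆ := by
    simp only [commutatorElement_def]; group
  rw [central_bracket (C.ker_comm hz) (C.ker_comm hz')] at e2
  have e3 : ⁅u⁻¹, v⁆ = (u⁻¹ * ⁅u, v⁆ * u)⁻¹ := by simp only [commutatorElement_def]; group
  rw [e1, e3, mul_assoc, (C.ker_comm hc u).eq, inv_mul_cancel_left] at e2
  have h3 := C.ker_cube hc
  rw [pow_succ, sq] at h3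
  nth_rewrite 2 [e2] at h3
  rw [mul_inv_cancel, one_mul] at h3
  exact commutatorElement_eq_one_iff_commute.1 h3

theorem self_comm (x : Kg 0) : C.LiftComm x x := fun u v hu hv => by
  have hz : C.χ (v * u⁻¹) = 1 := by rw [map_mul, map_inv, hu, hv, mul_inv_cancel]
  have := ((C.ker_comm hz u).symm).mul_right (Commute.refl u)
  rwa [inv_mul_cancel_right] at this

theorem okW_mem {b : ℕ} {w : List ℕ} (h : okW b w = true) {k : ℕ} (hk : k ∈ w) : k < b := by
  simp only [okW, List.all_eq_true, Nat.blt_eq] at h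
  exact h k hk

theorem torus_comm {x y : Kg 0} (hx : x.1 ∈ Tor) (hy : y.1 ∈ Tor) : C.LiftComm x y := by
  have hgen : ∀ (k : ℕ) (hk : k < 5), ∀ y : Kg 0, y.1 ∈ Tor →
      C.LiftComm ⟨el [k], el_gl 0 (by omega)⟩ y := by
    intro k hk
    set g : Kg 0 := ⟨el [k], el_gl 0 (by omega)⟩ with hg
    have h := allF_iff.1 comm_ok k hk
    simp only [commOK, Bool.and_eq_true, List.all_eq_true, Nat.blt_eq, Nat.ble_eq] at h
    obtain ⟨⟨⟨h3, hys⟩, hne⟩, hex⟩ := h
    let S := (C.commGrp g).map (Kg 0).subtype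
    have hgS : el [k] ∈ S := ⟨g, C.self_comm g, rfl⟩
    have hscal : el Data.scalK ∈ S := ⟨⟨_, tor_le_kg 0 scal_gen.mem_tor⟩, fun u v _ hv =>
      (C.ker_comm (hv.trans (theta_scal 0 scal_gen)) u).symm, rfl⟩
    have hyS : ∀ p ∈ (Data.commK.getD k ([], [])).1, el p.1 ∈ S := by
      intro p hp
      obtain ⟨⟨⟨hp1, hp2⟩, e1⟩, e2⟩ := hys p hp
      have hyT : el p.1 ∈ Tor := el_mem fun a ha => letr_tor (okW_mem hp1 ha)
      have hnK : el p.2 ∈ Kg 0 := el_mem fun a ha => el_gl 0 (hp2 a ha).2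
      refine ⟨⟨_, tor_le_kg 0 hyT⟩, C.invert_comm (n := ⟨el p.2, hnK⟩) (Subtype.ext ?_) (Subtype.ext ?_)
        (Subtype.ext (tor_comm (letr_tor hk) hyT).eq), rfl⟩
      · show el p.2 * el [k] * (el p.2)⁻¹ = (el [k])⁻¹
        rw [← el_append, el_eq e1, el_append, mul_inv_cancel_right]
        refine (inv_eq_of_mul_eq_one_right ?_).symm
        rw [← el_append, el_eq (u := [k] ++ [k, k]) (w := []) h3, el_nil]
      · show el p.2 * el p.1 * (el p.2)⁻¹ = el p.1
        rw [← el_append, el_eq e2, el_append, mul_inv_cancel_right]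
    have hall : ∀ m < 5, el [m] ∈ S := by
      intro m hm
      have hm' := allF_iff.1 hex m hm
      simp only [Bool.and_eq_true, List.all_eq_true, Nat.blt_eq] at hm'
      rw [el_eq hm'.2]
      set L := [k] :: Data.scalK :: (Data.commK.getD k ([], [])).1.map (fun y => y.1)
      have hL : ∀ a, el (L.getD a []) ∈ S := by
        intro a
        by_cases ha : a < L.length
        · rw [List.getD_eq_getElem _ _ ha]
          have := List.getElem_mem ha
          generalize L[a] = w at this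
          simp only [L, List.mem_cons, List.mem_map] at this
          rcases this with rfl | rfl | ⟨p, hp, rfl⟩
          exacts [hgS, hscal, hyS p hp]
        · rw [List.getD_eq_default _ _ (by omega)]; exact one_mem S
      generalize ((Data.commK.getD k ([], [])).2.getD m []) = w
      induction w with
      | nil => exact one_mem S
      | cons a w ih => rw [List.flatMap_cons, el_append]; exact mul_mem (hL a) ih
    intro y hy
    obtain ⟨y', hy', e⟩ := tor_le hall hy
    rwa [← Subtype.ext (e : y'.1 = y.1)]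
  have h := tor_le (H := (C.commGrp y).map (Kg 0).subtype)
    (fun k hk => ⟨_, C.liftComm_symm (hgen k hk y hy), rfl⟩) hx
  obtain ⟨x', hx', e⟩ := h
  rw [← Subtype.ext (e : x'.1 = x.1)]
  exact C.liftComm_symm hx'

/-- The lifts of the torus. -/
noncomputable def liftTor : Subgroup S6 := ((Abar.comap C.χ)).map K.subtype

theorem liftTor_comm {a b : S6} (ha : a ∈ C.liftTor) (hb : b ∈ C.liftTor) : Commute a b := by
  obtain ⟨u, ⟨x, hx, ex⟩, rfl⟩ := ha
  obtain ⟨v, ⟨y, hy, ey⟩, rfl⟩ := hb
  exact (C.torus_comm hx hy u v ex.symm ey.symm).map K.subtype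

theorem card_liftTor : Nat.card C.liftTor = 243 := by
  rw [liftTor, Subgroup.card_map_of_injective K.subtype_injective]
  let f : Abar.comap C.χ →* Perm (Fin 112) := C.χ.comp (Subgroup.subtype _)
  have hr : f.range = Abar := by
    refine le_antisymm ?_ fun a ha => ?_
    · rintro _ ⟨g, rfl⟩; exact g.2
    · obtain ⟨u, hu⟩ := (C.range_eq.ge (abar_le ha) : a ∈ C.χ.range)
      exact ⟨⟨u, by rw [Subgroup.mem_comap, hu]; exact ha⟩, hu⟩
  have hk : Nat.card f.ker = 3 := by
    refine Eq.trans ?_ (C.ker_eq ▸ C.card_centre : Nat.card C.χ.ker = 3)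
    exact Nat.card_congr
      { toFun := fun g => ⟨g.1.1, g.2⟩
        invFun := fun g => ⟨⟨g.1, by rw [Subgroup.mem_comap, MonoidHom.mem_ker.1 g.2]; exact one_mem _⟩, g.2⟩
        left_inv := fun g => rfl
        right_inv := fun g => rfl }
  rw [← f.ker.card_mul_index, hk, Subgroup.index_ker, hr, card_abar]

end Cover

end CfsgLib.Sporadic.U43InSU62
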