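import Cfsg.Agent.Lib.Sporadic.U43InSU62.Group
import Cfsg.Agent.Lib.Schur.PSUFourThree.Model

/-!
# The three groups and their actions on 112 orthonormal frames
-/

set_option autoImplicit false
set_option maxRecDepth 100000

open Matrix CfsgLib.Sporadic.OutCert Equiv

namespace CfsgLib.Sporadic.U43InSU62

open FieldFour


/-- The image of a vector. -/
def app (g : S6) (x : Fin 6 → FieldFour) : Fin 6 → FieldFour := (g.1 : Matrix (Fin 6) (Fin 6) FieldFour) *ᵥ x

theorem app_mul (g h : S6) (x : Fin 6 → FieldFour) : app (g * h) x = app g (app h x) :=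
  (Matrix.mulVec_mulVec x _ _).symm

theorem app_smul (g : S6) (c : FieldFour) (x : Fin 6 → FieldFour) : app g (c • x) = c • app g x :=
  Matrix.mulVec_smul _ _ _

theorem app_apply (g : S6) (x : Fin 6 → FieldFour) (i : Fin 6) : app g x i = ∑ k, ent g i k * x k := rfl

/-- The vector with a code. -/
def vecOf (v : ℕ) : Fin 6 → FieldFour := fun k => ofCode (Fin.ofNat 4 (lk 2 v k.val))

/-- The code of a vector. -/
noncomputable def vcd (x : Fin 6 → FieldFour) : ℕ := pkF 2 (fun k => code (x (Fin.ofNat 6 k))) 6 0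

theorem pkF_congr {f f' : ℕ → ℕ} {n : ℕ} (h : ∀ k < n, f k = f' k) : pkF 2 f n 0 = pkF 2 f' n 0 := by
  rw [pkF_range, pkF_range]
  exact congrArg _ (List.map_congr_left fun k hk => h k (List.mem_range.1 hk))

theorem vecOf_code (v : ℕ) (k : Fin 6) : code (vecOf v k) = lk 2 v k.val := by
  have h : lk 2 v k.val < 4 := Nat.mod_lt _ (by norm_num)
  have e : ∀ a : Fin 4, code (ofCode (Fin.ofNat 4 a.val)) = a.val := by decide
  exact e ⟨_, h⟩

theorem vcd_smul {M v : ℕ} {g : S6} (hg : MRep M g) : vcd (app g (vecOf v)) = mvK M v := by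
  refine pkF_congr fun k hk => ?_
  rw [app_apply, Fin.sum_univ_six, show (Fin.ofNat 6 k) = (⟨k, hk⟩ : Fin 6) from Fin.ext (Nat.mod_eq_of_lt hk)]
  simp only [code_add, code_mul, vecOf_code, ← hg ⟨k, hk⟩ _]
  rfl

theorem vcd_scal (c : FieldFour) (v : ℕ) : vcd (c • vecOf v) = smK (code c) v := by
  refine pkF_congr fun k hk => ?_
  rw [Pi.smul_apply, smul_eq_mul, code_mul, vecOf_code,
    show (Fin.ofNat 6 k) = (⟨k, hk⟩ : Fin 6) from Fin.ext (Nat.mod_eq_of_lt hk)]

theorem vcd_inj {x y : Fin 6 → FieldFour} (h : vcd x = vcd y) : x = y := by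
  funext k
  have hx : ∀ z : Fin 6 → FieldFour, lk 2 (vcd z) k.val = code (z k) := fun z => by
    rw [vcd, lk_pkF (fun a _ => code_lt' _) k.2,
      show (Fin.ofNat 6 k.val) = k from Fin.ext (Nat.mod_eq_of_lt k.2)]
  exact code_inj _ _ (by rw [← hx, ← hx, h])

variable (l : Fin 3)

/-- A vector of a frame. -/
noncomputable def fv (i : Fin 112) (k : Fin 6) : Fin 6 → FieldFour := vecOf (fvN l i k)

/-- The element permutes the frames as given. -/
def Rel (g : S6) (r : Fin 112 → Fin 112) : Prop :=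
  ∀ i k, ∃ k' : Fin 6, ∃ c : FieldFour, c ≠ 0 ∧ app g (fv l i k) = c • fv l (r i) k'

theorem frame_data : zN l < 112 ∧ (∀ k : Fin 6, fvN l (zN l) k = 4 ^ k.val) ∧
    ∀ i : Fin 112, ∀ k : Fin 6, ∀ c : FieldFour, c ≠ 0 → foN l (smK (code c) (fvN l i k)) = i := by
  have h := allF_iff.1 frames_ok l l.2
  simp only [frameOK, Bool.and_eq_true, Nat.blt_eq] at h
  refine ⟨h.1.1, fun k => Nat.eq_of_beq_eq_true (allF_iff.1 h.1.2 k k.2), fun i k c hc => ?_⟩
  have hcc : ∀ c : FieldFour, c ≠ 0 → code c - 1 < 3 ∧ code c - 1 + 1 = code c := by decide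
  have h2 := allF_iff.1 (allF_iff.1 (allF_iff.1 h.2 i i.2) k k.2) _ (hcc c hc).1
  rw [(hcc c hc).2] at h2
  exact Nat.eq_of_beq_eq_true h2

theorem fo_fv (i : Fin 112) (k : Fin 6) {c : FieldFour} (hc : c ≠ 0) : foN l (vcd (c • fv l i k)) = i := by
  rw [fv, vcd_scal]
  exact (frame_data l).2.2 i k c hc

theorem Rel.fo {g : S6} {r : Fin 112 → Fin 112} (h : Rel l g r) (i : Fin 112) (k : Fin 6) :
    foN l (vcd (app g (fv l i k))) = r i := by
  obtain ⟨k', c, hc, e⟩ := h i k
  rw [e, fo_fv l _ _ hc]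

theorem Rel.unique {g : S6} {r s : Fin 112 → Fin 112} (h : Rel l g r) (h' : Rel l g s) : r = s :=
  funext fun i => Fin.ext ((h.fo l i 0).symm.trans (h'.fo l i 0))

theorem Rel.mul {g h : S6} {r s : Fin 112 → Fin 112} (hg : Rel l g r) (hh : Rel l h s) :
    Rel l (g * h) (r ∘ s) := by
  intro i k
  obtain ⟨k', c, hc, e⟩ := hh i k
  obtain ⟨k'', d, hd, e'⟩ := hg (s i) k'
  exact ⟨k'', c * d, mul_ne_zero hc hd, by rw [app_mul, e, app_smul, e', smul_smul]; rfl⟩

theorem Rel.one : Rel l (1 : S6) id := fun i k =>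
  ⟨k, 1, one_ne_zero, by rw [one_smul]; exact Matrix.one_mulVec _⟩

/-- The additional generator. -/
def rW : List ℕ := Data.rK.getD l.val []

/-- A generator. -/
noncomputable def gl (m : Fin 10) : S6 := el (locW l m)

/-- The group. -/
noncomputable def Kg : Subgroup S6 := Subgroup.closure (Set.range (gl l))

theorem gl_mem (m : Fin 10) : gl l m ∈ Kg l := Subgroup.subset_closure ⟨m, rfl⟩

theorem gl_rel (m : Fin 10) : ∃ r, Rel l (gl l m) r ∧ ∀ i, (r i : ℕ) = pmN l m i := by
  have h : moveOK l m = true := by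
    fin_cases l
    exacts [allF_iff.1 moves0 m m.2, allF_iff.1 moves1 m m.2, allF_iff.1 moves2 m m.2]
  simp only [moveOK] at h
  have hl : ∀ i : Fin 112, pmN l m i < 112 := fun i => by
    have := allF_iff.1 h i i.2
    simp only [Bool.and_eq_true, Nat.blt_eq] at this
    exact this.1
  refine ⟨fun i => ⟨pmN l m i, hl i⟩, fun i k => ?_, fun i => rfl⟩
  have h1 := allF_iff.1 h i i.2
  simp only [Bool.and_eq_true] at h1
  have h2 := allF_iff.1 h1.2 k k.2
  simp only [List.any_eq_true, List.mem_range] at h2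
  obtain ⟨k', hk', c, hc, e⟩ := h2
  have hcc : ∀ c : Fin 3, code (ofCode (Fin.ofNat 4 (c.val + 1))) = c.val + 1 ∧
      ofCode (Fin.ofNat 4 (c.val + 1)) ≠ 0 := by decide
  refine ⟨⟨k', hk'⟩, ofCode (Fin.ofNat 4 (c + 1)), (hcc ⟨c, hc⟩).2, vcd_inj ?_⟩
  rw [fv, gl, vcd_smul (el_rep _), fv, vcd_scal, (hcc ⟨c, hc⟩).1]
  exact Nat.eq_of_beq_eq_true e

theorem exists_rel (g : Kg l) : ∃ r, Rel l g.1 r := by
  obtain ⟨g, hg⟩ := g
  show ∃ r, Rel l g r
  rw [Kg, ← Subgroup.mem_toSubmonoid, Subgroup.closure_toSubmonoid_of_finite] at hg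
  refine Submonoid.closure_induction (fun x ⟨m, hm⟩ => hm ▸ ⟨_, (gl_rel l m).choose_spec.1⟩) ⟨id, Rel.one l⟩
    (fun x y _ _ ⟨r, hr⟩ ⟨s, hs⟩ => ⟨r ∘ s, hr.mul l hs⟩) hg

/-- The action on the frames, as maps. -/
noncomputable def thetaE : Kg l →* Function.End (Fin 112) where
  toFun g := (exists_rel l g).choose
  map_one' := ((exists_rel l 1).choose_spec).unique l (Rel.one l)
  map_mul' g h := ((exists_rel l (g * h)).choose_spec).unique l
    ((exists_rel l g).choose_spec.mul l (exists_rel l h).choose_spec)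

/-- The action on the frames. -/
noncomputable def theta : Kg l →* Perm (Fin 112) := (thetaE l).toHomPerm

theorem theta_rel (g : Kg l) : Rel l g.1 (theta l g) := (exists_rel l g).choose_spec

theorem theta_gl (m : Fin 10) (i : Fin 112) : (theta l ⟨gl l m, gl_mem l m⟩ i : ℕ) = pmN l m i := by
  obtain ⟨r, hr, hi⟩ := gl_rel l m
  rw [(theta_rel l ⟨gl l m, gl_mem l m⟩).unique l hr, hi]

/-- The product of local letters. -/
noncomputable def gw (w : List (Fin 10)) : Kg l := (w.map fun m => (⟨gl l m, gl_mem l m⟩ : Kg l)).prod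

theorem frameImg_theta : ∀ (w : List (Fin 10)) (i : Fin 112),
    frameImg l (w.map Fin.val) i = (theta l (gw l w) i : ℕ)
  | [], i => by simp [frameImg, gw]
  | m :: w, i => by
    show pmN l m (frameImg l (w.map Fin.val) i) = _
    rw [frameImg_theta w i, ← theta_gl l m]
    simp [gw, map_mul]

/-- The model of `PSU₄(3)` on the frames. -/
noncomputable abbrev RG : Subgroup (Perm (Fin 112)) := CfsgLib.Schur.PSUFourThree.phi.range

theorem lineImg_phi (w : List (Fin 2)) (i : Fin 112) :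
    lineImg (w.map Fin.val) i = (CfsgLib.Schur.PSUFourThree.phi (w.map Schur.PSUFourThree.gen).prod i : ℕ) :=
  Schur.PSUFourThree.wordImg_phi w i

theorem okW_fin {b : ℕ} [NeZero b] {w : List ℕ} (h : okW b w = true) :
    (w.map fun m => Fin.ofNat b m).map Fin.val = w := by
  simp only [okW, List.all_eq_true, Nat.blt_eq] at h
  rw [List.map_map]
  conv_rhs => rw [← List.map_id w]
  exact List.map_congr_left fun m hm => Nat.mod_eq_of_lt (h m hm)

theorem range_theta : (theta l).range = RG := by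
  refine le_antisymm ?_ ?_
  · rintro _ ⟨⟨g, hg⟩, rfl⟩
    induction hg using Subgroup.closure_induction with
    | mem x hx =>
      obtain ⟨m, rfl⟩ := hx
      have h := allF_iff.1 (allF_iff.1 up_ok l l.2) m m.2
      simp only [Bool.and_eq_true] at h
      refine ⟨(((Data.upK.getD l []).getD m []).map fun a => Fin.ofNat 2 a).map Schur.PSUFourThree.gen |>.prod,
        Equiv.ext fun i => Fin.ext ?_⟩
      rw [← lineImg_phi, okW_fin h.1, Nat.eq_of_beq_eq_true (allF_iff.1 h.2 i i.2)]
      exact (theta_gl l m i).symm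
    | one => exact ⟨1, by rw [map_one]; exact (map_one _).symm⟩
    | mul x y hx hy h1 h2 =>
      have := mul_mem h1 h2
      rwa [← map_mul] at this
    | inv x hx h1 =>
      have := inv_mem h1
      rwa [← map_inv] at this
  · rintro _ ⟨g, rfl⟩
    have hg : g ∈ Subgroup.closure (Set.range Schur.PSUFourThree.gen) := by
      rw [Schur.PSUFourThree.gen_closure]; trivial
    induction hg using Subgroup.closure_induction with
    | mem x hx =>
      obtain ⟨a, rfl⟩ := hx
      have h := allF_iff.1 (allF_iff.1 down_ok l l.2) a a.2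
      simp only [Bool.and_eq_true] at h
      refine ⟨gw l (((Data.downK.getD l []).getD a []).map fun m => Fin.ofNat 10 m), Equiv.ext fun i => Fin.ext ?_⟩
      rw [← frameImg_theta, okW_fin h.1, Nat.eq_of_beq_eq_true (allF_iff.1 h.2 i i.2)]
      exact Schur.PSUFourThree.gen_rep a i
    | one => rw [map_one]; exact one_mem _
    | mul x y hx hy h1 h2 => rw [map_mul]; exact mul_mem h1 h2
    | inv x hx h1 => rw [map_inv]; exact inv_mem h1

end CfsgLib.Sporadic.U43InSU62
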