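import Cfsg.Agent.Lib.Sporadic.U43InSU62.Checks

/-!
# Monomial elements and the diagonal torus of `SU₆(2)`
-/

set_option autoImplicit false
set_option maxRecDepth 100000

open Matrix CfsgLib.Sporadic.OutCert Equiv

namespace CfsgLib.Sporadic.U43InSU62

open FieldFour

theorem beqF {a b : ℕ} (h : a ≠ b) : Nat.beq a b = false :=
  Bool.eq_false_iff.2 fun e => h (Nat.eq_of_beq_eq_true e)

theorem inv_val (g : S6) : ((g⁻¹).1 : Matrix (Fin 6) (Fin 6) FieldFour) =
    ((g.1 : Matrix (Fin 6) (Fin 6) FieldFour).map frob)ᵀ := by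
  have h := (SUPres.mem_SU_iff_matrix frob_pow g.1).1 g.2
  have e : (g.1 : Matrix (Fin 6) (Fin 6) FieldFour) * ((g⁻¹).1 : Matrix (Fin 6) (Fin 6) FieldFour) = 1 :=
    (Matrix.SpecialLinearGroup.coe_mul g.1 (g⁻¹).1).symm.trans (by rw [← Subgroup.coe_mul, mul_inv_cancel]; rfl)
  calc ((g⁻¹).1 : Matrix (Fin 6) (Fin 6) FieldFour)
      = ((g.1.1.map frob)ᵀ * g.1.1) * (g⁻¹).1.1 := by rw [h, Matrix.one_mul]
    _ = (g.1.1.map frob)ᵀ := by rw [Matrix.mul_assoc, e, Matrix.mul_one]

theorem ent_inv (g : S6) (i j : Fin 6) : ent g⁻¹ i j = frob (ent g j i) := by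
  show ((g⁻¹).1 : Matrix (Fin 6) (Fin 6) FieldFour) i j = _
  rw [inv_val]
  rfl

theorem ent_mul (g h : S6) (i j : Fin 6) : ent (g * h) i j = ∑ k, ent g i k * ent h k j := Matrix.mul_apply

theorem ent_one (i j : Fin 6) : ent 1 i j = if i = j then 1 else 0 := Matrix.one_apply

theorem ext_ent {g h : S6} (e : ∀ i j, ent g i j = ent h i j) : g = h :=
  Subtype.ext (Subtype.ext (Matrix.ext e))

theorem frob_eq_zero {x : FieldFour} : frob x = 0 ↔ x = 0 := map_eq_zero_iff frob frob.injective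

theorem exists_ne (g : S6) (j : Fin 6) : ∃ i, ent g i j ≠ 0 := by
  by_contra! h
  have e := congrArg (fun x => ent x j j) (inv_mul_cancel g)
  simp only [ent_mul, h, mul_zero, Finset.sum_const_zero, ent_one, if_true] at e
  exact zero_ne_one e

theorem exists_ne' (g : S6) (i : Fin 6) : ∃ j, ent g i j ≠ 0 := by
  obtain ⟨j, hj⟩ := exists_ne g⁻¹ i
  exact ⟨j, fun h => hj (by rw [ent_inv, h, map_zero])⟩

/-- Monomial with a given permutation. -/
def Mo (p : Perm (Fin 6)) (g : S6) : Prop := ∀ i j, i ≠ p j → ent g i j = 0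

theorem Mo.ne {p : Perm (Fin 6)} {g : S6} (h : Mo p g) (j : Fin 6) : ent g (p j) j ≠ 0 := by
  obtain ⟨i, hi⟩ := exists_ne g j
  by_cases e : i = p j
  · rwa [← e]
  · exact absurd (h i j e) hi

theorem Mo.unique {p q : Perm (Fin 6)} {g : S6} (hp : Mo p g) (hq : Mo q g) : p = q :=
  Equiv.ext fun j => by_contra fun e => hp.ne j (hq _ _ e)

theorem Mo.one : Mo 1 (1 : S6) := fun i j h => by rw [ent_one, if_neg (by simpa using h)]

theorem Mo.mul {p q : Perm (Fin 6)} {g h : S6} (hg : Mo p g) (hh : Mo q h) : Mo (p * q) (g * h) := by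
  intro i j hij
  rw [ent_mul]
  refine Finset.sum_eq_zero fun k _ => ?_
  by_cases hk : k = q j
  · subst hk
    rw [hg i (q j) (by simpa using hij), zero_mul]
  · rw [hh k j hk, mul_zero]

theorem Mo.ent_mul_right {q : Perm (Fin 6)} {h : S6} (hh : Mo q h) (g : S6) (i j : Fin 6) :
    ent (g * h) i j = ent g i (q j) * ent h (q j) j := by
  rw [ent_mul, Finset.sum_eq_single (q j) (fun k _ hk => by rw [hh k j hk, mul_zero]) (by simp)]

theorem Mo.inv {p : Perm (Fin 6)} {g : S6} (hg : Mo p g) : Mo p⁻¹ g⁻¹ := by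
  intro i j hij
  rw [ent_inv, hg j i fun e => hij (by rw [e]; simp), map_zero]

/-- The monomial elements. -/
def Mon : Subgroup S6 where
  carrier := {g | ∃ p, Mo p g}
  one_mem' := ⟨1, Mo.one⟩
  mul_mem' := fun ⟨p, hp⟩ ⟨q, hq⟩ => ⟨p * q, hp.mul hq⟩
  inv_mem' := fun ⟨p, hp⟩ => ⟨p⁻¹, hp.inv⟩

/-- The permutation of a monomial element. -/
noncomputable def prm : Mon →* Perm (Fin 6) :=
  MonoidHom.mk' (fun g => g.2.choose) fun g h =>
    (g * h).2.choose_spec.unique (g.2.choose_spec.mul h.2.choose_spec)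

theorem prm_spec (g : Mon) : Mo (prm g) g.1 := g.2.choose_spec

theorem prm_eq {g : Mon} {p : Perm (Fin 6)} (h : Mo p g.1) : prm g = p := (prm_spec g).unique h

/-- The diagonal torus. -/
def Tor : Subgroup S6 where
  carrier := {g | Mo 1 g}
  one_mem' := Mo.one
  mul_mem' := fun {a b} ha hb => show Mo 1 (a * b) by simpa using Mo.mul ha hb
  inv_mem' := fun {a} ha => show Mo 1 a⁻¹ by simpa using Mo.inv ha

theorem tor_le_mon : Tor ≤ Mon := fun _ h => ⟨1, h⟩

theorem mem_tor_iff {g : Mon} : g.1 ∈ Tor ↔ prm g = 1 :=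
  ⟨fun h => prm_eq h, fun h => show Mo 1 g.1 from h ▸ prm_spec g⟩

theorem tor_comm {s t : S6} (hs : s ∈ Tor) (ht : t ∈ Tor) : Commute s t := by
  refine ext_ent fun i j => ?_
  rw [Mo.ent_mul_right ht, Mo.ent_mul_right hs]
  by_cases e : i = j
  · subst e; exact mul_comm _ _
  · rw [show ent s i ((1 : Perm (Fin 6)) j) = 0 from hs i j e, show ent t i ((1 : Perm (Fin 6)) j) = 0 from ht i j e,
      zero_mul, zero_mul]

/-- Scalar elements. -/
def IsScal (g : S6) : Prop := ∃ c : FieldFour, ∀ i j, ent g i j = if i = j then c else 0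

theorem IsScal.mem_tor {g : S6} (h : IsScal g) : g ∈ Tor := fun i j hij => by
  obtain ⟨c, hc⟩ := h
  rw [hc, if_neg (by simpa using hij)]

theorem IsScal.comm {g : S6} (h : IsScal g) (x : S6) : Commute g x := by
  obtain ⟨c, hc⟩ := h
  refine ext_ent fun i j => ?_
  rw [ent_mul, ent_mul, Finset.sum_eq_single i (fun k _ hk => by rw [hc, if_neg (Ne.symm hk), zero_mul]) (by simp),
    Finset.sum_eq_single j (fun k _ hk => by rw [hc, if_neg hk, mul_zero]) (by simp), hc, hc, if_pos rfl, if_pos rfl,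
    mul_comm]

theorem el_tor (n : ℕ) (hn : n < 243) : el (tw n) ∈ Tor := by
  intro i j hij
  have h := allF_iff.1 diag_ok n hn
  simp only [diagOK, Bool.and_eq_true] at h
  have hk := allF_iff.1 h.1 (6 * i.val + j.val) (by omega)
  rw [(idx_div i j).1, (idx_div i j).2,
    show Nat.beq i.val j.val = false from beqF (Fin.val_ne_of_ne (by simpa using hij))] at hk
  simp only [cond_false, Nat.beq_eq] at hk
  rw [el_rep (tw n) i j] at hk
  exact code_inj _ _ (hk.trans (by decide))

theorem tor_exists {g : S6} (hg : g ∈ Tor) : ∃ n < 243, g = el (tw n) := by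
  have hdiag : (g.1 : Matrix (Fin 6) (Fin 6) FieldFour) = diagonal fun i => ent g i i :=
    Matrix.ext fun i j => by
      by_cases e : i = j
      · subst e; rw [diagonal_apply_eq]
      · rw [diagonal_apply_ne _ e]; exact hg i j e
  have hdet := g.1.2
  rw [hdiag, det_diagonal] at hdet
  simp only [Fin.prod_univ_six] at hdet
  obtain ⟨hlt, h0, h1, h2, h3, h4, h5⟩ := diag_cover _ _ _ _ _ _ hdet
  refine ⟨_, hlt, ext_ent fun i j => ?_⟩
  by_cases e : i = j
  · subst e
    refine code_inj _ _ (Eq.trans ?_ (el_rep (tw _) i i))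
    fin_cases i
    exacts [h0.symm, h1.symm, h2.symm, h3.symm, h4.symm, h5.symm]
  · rw [hg i j e, el_tor _ hlt i j e]

theorem tw_inj {m n : ℕ} (hm : m < 243) (hn : n < 243) (e : el (tw m) = el (tw n)) : m = n := by
  have hd : ∀ k < 243, k = decN (code (ent (el (tw k)) 0 0)) (code (ent (el (tw k)) 1 1))
      (code (ent (el (tw k)) 2 2)) (code (ent (el (tw k)) 3 3)) (code (ent (el (tw k)) 4 4)) := by
    intro k hk
    have h := allF_iff.1 diag_ok k hk
    simp only [diagOK, Bool.and_eq_true] at h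
    rw [← el_rep (tw k) 0 0, ← el_rep (tw k) 1 1, ← el_rep (tw k) 2 2, ← el_rep (tw k) 3 3,
      ← el_rep (tw k) 4 4]
    exact (Nat.eq_of_beq_eq_true h.2).symm
  rw [hd m hm, hd n hn, e]

theorem card_tor : Nat.card Tor = 243 := by
  let f : Fin 243 → Tor := fun n => ⟨el (tw n), el_tor n n.2⟩
  rw [← Nat.card_congr (Equiv.ofBijective f ⟨fun m n e => Fin.ext (tw_inj m.2 n.2 (congrArg Subtype.val e)),
    fun g => let ⟨n, hn, e⟩ := tor_exists g.2; ⟨⟨n, hn⟩, Subtype.ext e.symm⟩⟩), Nat.card_fin]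

theorem el_eq_wd (w : List ℕ) : el w = wd (lets w) := rfl

theorem el_single (k : ℕ) : el [k] = letr (Fin.ofNat 16 k) := by rw [el_cons, el_nil, mul_one]

theorem el_mem {H : Subgroup S6} {w : List ℕ} (h : ∀ k ∈ w, el [k] ∈ H) : el w ∈ H := by
  induction w with
  | nil => exact one_mem H
  | cons k w ih =>
    rw [el_cons, ← el_single]
    exact mul_mem (h k List.mem_cons_self) (ih fun a ha => h a (List.mem_cons_of_mem _ ha))

/-- The permutations of the monomial letters. -/
def letPerm : Fin 10 → Perm (Fin 6) :=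
  ![1, 1, 1, 1, 1, swap 0 2 * swap 0 1, swap 1 3 * swap 1 2, swap 2 4 * swap 2 3, swap 3 5 * swap 3 4, swap 0 1]

theorem letPerm_code : ∀ k : Fin 10, ∀ i j : Fin 6, i ≠ letPerm k j →
    lk 2 (codeL k) (6 * i.val + j.val) = 0 := by decide +kernel

theorem letr_mo (k : Fin 10) : Mo (letPerm k) (el [k.val]) := fun i j h => by
  have e : Fin.ofNat 16 k.val = ⟨k.val, by omega⟩ := Fin.ext (Nat.mod_eq_of_lt (by omega))
  rw [el_single, e]
  exact code_inj _ _ ((letr_rep _ i j).symm.trans ((letPerm_code k i j h).trans (by decide)))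

theorem letr_tor {k : ℕ} (hk : k < 5) : el [k] ∈ Tor := by
  have h := letr_mo ⟨k, by omega⟩
  rwa [show letPerm ⟨k, by omega⟩ = 1 by interval_cases k <;> rfl] at h

theorem tw_letters {n k : ℕ} (h : k ∈ tw n) : k < 5 := by
  simp only [tw, List.mem_append, List.mem_replicate] at h
  omega

theorem tor_le {H : Subgroup S6} (h : ∀ k < 5, el [k] ∈ H) : Tor ≤ H := fun g hg => by
  obtain ⟨n, -, rfl⟩ := tor_exists hg
  exact el_mem fun k hk => h k (tw_letters hk)

theorem norm_tor {p : Perm (Fin 6)} {g s : S6} (hg : Mo p g) (hs : s ∈ Tor) : g * s * g⁻¹ ∈ Tor := by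
  have := (hg.mul (show Mo 1 s from hs)).mul hg.inv
  rwa [mul_one, mul_inv_cancel] at this

/-- An element normalising the torus is monomial. -/
theorem mon_of_norm {g : S6} (h : ∀ s ∈ Tor, g * s * g⁻¹ ∈ Tor) : g ∈ Mon := by
  have key : ∀ i j j', ent g i j ≠ 0 → ent g i j' ≠ 0 → j = j' := by
    intro i j j' h1 h2
    by_contra hne
    obtain ⟨n, hn, hd⟩ : ∃ n < 243, ent (el (tw n)) j j ≠ ent (el (tw n)) j' j' := by
      have sep : ∀ a b : Fin 6, a ≠ b → ∃ n : Fin 243,
          lk 2 (wordK (tw n)) (6 * a.val + a.val) ≠ lk 2 (wordK (tw n)) (6 * b.val + b.val) := by decide +kernel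
      obtain ⟨n, hn⟩ := sep j j' hne
      exact ⟨n, n.2, fun e => hn (by rw [el_rep, el_rep, e])⟩
    set s := el (tw n) with hs
    have hst : s ∈ Tor := el_tor n hn
    have hu := h s hst
    set u := g * s * g⁻¹ with hu'
    have e : u * g = g * s := by rw [hu', inv_mul_cancel_right]
    have hcol : ∀ a, ent g i a * ent s a a = ent u i i * ent g i a := fun a => by
      have := congrArg (fun x => ent x i a) e
      simp only [Mo.ent_mul_right (show Mo 1 s from hst), Perm.coe_one, id] at this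
      rw [ent_mul, Finset.sum_eq_single i (fun k _ hk => by rw [show ent u i k = 0 from hu i k (Ne.symm hk),
        zero_mul]) (by simp)] at this
      exact this.symm
    have e1 : ent s j j = ent u i i := mul_left_cancel₀ h1 ((hcol j).trans (mul_comm _ _))
    have e2 : ent s j' j' = ent u i i := mul_left_cancel₀ h2 ((hcol j').trans (mul_comm _ _))
    exact hd (e1.trans e2.symm)
  choose f hf using exists_ne' g
  have hsurj : Function.Surjective f := fun j => by
    obtain ⟨i, hi⟩ := exists_ne g j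
    exact ⟨i, key i _ _ (hf i) hi⟩
  have hbij : Function.Bijective f := Finite.surjective_iff_bijective.1 hsurj
  exact ⟨(Equiv.ofBijective f hbij).symm, fun i j hij => by_contra fun hne =>
    hij ((Equiv.ofBijective f hbij).injective (by
      rw [Equiv.apply_symm_apply]; exact key i _ _ (hf i) hne))⟩

theorem scal_gen : IsScal (el Data.scalK) := by
  refine ⟨ofCode 2, fun i j => code_inj _ _ ((el_rep _ i j).symm.trans ?_)⟩
  have h := allF_iff.1 scal_ok.2.2.1 (6 * i.val + j.val) (by omega)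
  rw [(idx_div i j).1, (idx_div i j).2] at h
  by_cases e : i = j
  · subst e
    rw [show Nat.beq i.val i.val = true from Nat.beq_refl _] at h
    rw [if_pos rfl, Nat.eq_of_beq_eq_true h]
    decide
  · rw [show Nat.beq i.val j.val = false from beqF (Fin.val_ne_of_ne e)] at h
    rw [if_neg e, Nat.eq_of_beq_eq_true h]
    decide

/-- The block of a coordinate. -/
def blkC (i : Fin 6) : Bool := Nat.blt i.val 3

/-- The torus element with two eigenvalues. -/
noncomputable def t0 : S6 := el Data.t0K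

theorem t0_ent (i j : Fin 6) : ent t0 i j = if i = j then (if blkC i then 1 else ofCode 2) else 0 := by
  refine code_inj _ _ ((el_rep _ i j).symm.trans ?_)
  have h := allF_iff.1 scal_ok.2.2.2 (6 * i.val + j.val) (by omega)
  rw [(idx_div i j).1, (idx_div i j).2] at h
  by_cases e : i = j
  · subst e
    rw [show Nat.beq i.val i.val = true from Nat.beq_refl _] at h
    rw [if_pos rfl, Nat.eq_of_beq_eq_true h]
    revert i
    decide
  · rw [show Nat.beq i.val j.val = false from beqF (Fin.val_ne_of_ne e)] at h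
    rw [if_neg e, Nat.eq_of_beq_eq_true h]
    decide

theorem t0_tor : t0 ∈ Tor := fun i j h => by rw [t0_ent, if_neg (by simpa using h)]

end CfsgLib.Sporadic.U43InSU62
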