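import Cfsg.Agent.Lib.Sporadic.U43InSU62.Over
import Cfsg.Agent.Lib.Schur.PSUFourThree.Main

/-!
# Three classes of subgroups `3.U₄(3)` in `SU₆(2)`
-/

set_option autoImplicit false
set_option maxRecDepth 100000

open Matrix CfsgLib.Sporadic.OutCert Equiv

namespace CfsgLib.Sporadic.U43InSU62

open FieldFour

attribute [local irreducible] theta el t0 wordK

/-- The conjugate. -/
abbrev cj (g : S6) (K : Subgroup S6) : Subgroup S6 := K.map (MulAut.conj g).toMonoidHom

theorem mem_cj {g : S6} {K : Subgroup S6} {x : S6} : x ∈ cj g K ↔ g⁻¹ * x * g ∈ K := by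
  constructor
  · rintro ⟨k, hk, rfl⟩
    show g⁻¹ * (g * k * g⁻¹) * g ∈ K
    rwa [show g⁻¹ * (g * k * g⁻¹) * g = k by group]
  · intro h
    refine ⟨_, h, ?_⟩
    show g * (g⁻¹ * x * g) * g⁻¹ = x
    group

theorem cj_cj (a b : S6) (K : Subgroup S6) : cj a (cj b K) = cj (a * b) K :=
  Subgroup.ext fun x => by
    rw [mem_cj, mem_cj, mem_cj]
    constructor <;> intro h <;> (simpa [_root_.mul_inv_rev, mul_assoc] using h)

theorem cj_one (K : Subgroup S6) : cj 1 K = K := Subgroup.ext fun x => by rw [mem_cj]; simp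

theorem card_cj (g : S6) (K : Subgroup S6) : Nat.card (cj g K) = Nat.card K :=
  Subgroup.card_map_of_injective (MulAut.conj g).injective

theorem centre_mem {A B : Type} [Group A] [Group B] (e : A ≃* B) (x : B) :
    e.symm x ∈ Subgroup.center A ↔ x ∈ Subgroup.center B := by
  rw [Subgroup.mem_center_iff, Subgroup.mem_center_iff]
  constructor
  · intro h y
    have := congrArg e (h (e.symm y))
    simpa using this
  · intro h y
    have := congrArg e.symm (h (e y))
    simpa using this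

theorem centre_card {A B : Type} [Group A] [Group B] (e : A ≃* B) :
    Nat.card (Subgroup.center B) = Nat.card (Subgroup.center A) :=
  Nat.card_congr
    { toFun := fun x => ⟨e.symm x.1, (centre_mem e x.1).2 x.2⟩
      invFun := fun x => ⟨e x.1, (centre_mem e _).1 (by rw [e.symm_apply_apply]; exact x.2)⟩
      left_inv := fun x => Subtype.ext (e.apply_symm_apply _)
      right_inv := fun x => Subtype.ext (e.symm_apply_apply _) }

/-- A cover carried along an isomorphism. -/
noncomputable def Cover.transport {K K' : Subgroup S6} (C : Cover K) (e : K ≃* K') : Cover K' where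
  χ := C.χ.comp e.symm.toMonoidHom
  range_eq := by
    rw [MonoidHom.range_comp, MonoidHom.range_eq_top.2 e.symm.surjective, ← MonoidHom.range_eq_map, C.range_eq]
  ker_eq := by
    ext x
    rw [MonoidHom.mem_ker, MonoidHom.comp_apply, MulEquiv.coe_toMonoidHom, ← MonoidHom.mem_ker, C.ker_eq,
      centre_mem e]
  card_centre := (centre_card e).trans C.card_centre

theorem Cover.transport_liftTor {K K' : Subgroup S6} (C : Cover K) (e : K ≃* K') {g : S6}
    (he : ∀ x : K, (e x : S6) = g * x * g⁻¹) : (C.transport e).liftTor = cj g C.liftTor := by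
  ext x
  rw [mem_cj]
  constructor
  · rintro ⟨u, hu, rfl⟩
    refine ⟨e.symm u, hu, ?_⟩
    show (e.symm u : S6) = g⁻¹ * (u : S6) * g
    conv_rhs => rw [← e.apply_symm_apply u, he]
    group
  · rintro ⟨u, hu, hux⟩
    refine ⟨e u, ?_, ?_⟩
    · show C.χ (e.symm (e u)) ∈ Abar
      rw [e.symm_apply_apply]
      exact hu
    · show (e u : S6) = x
      rw [he, show (u : S6) = g⁻¹ * x * g from hux]
      group

theorem exists_cj_kg {K : Subgroup S6} (C : Cover K) : ∃ g l, cj g K = Kg l := by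
  have hp : IsPGroup 3 C.liftTor := IsPGroup.of_card (n := 5) (by rw [C.card_liftTor]; norm_num)
  obtain ⟨g, hg⟩ := exists_conj_psyl hp
  obtain ⟨e, he⟩ : ∃ e : K ≃* cj g K, ∀ x : K, (e x : S6) = g * x * g⁻¹ :=
    ⟨K.equivMapOfInjective (MulAut.conj g).toMonoidHom (MulAut.conj g).injective, fun x =>
      (Subgroup.coe_equivMapOfInjective_apply _ _ _ x).trans (MulAut.conj_apply g x)⟩
  have hle : (C.transport e).liftTor ≤ Psyl := by
    rw [C.transport_liftTor e he]
    rintro _ ⟨x, hx, rfl⟩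
    exact hg x hx
  have hT : (C.transport e).liftTor = Tor :=
    comm_psyl hle (fun x hx y hy => (C.transport e).liftTor_comm hx hy) (C.transport e).card_liftTor
  obtain ⟨l, hl⟩ := (C.transport e).main hT
  exact ⟨g, l, hl.symm⟩

theorem expW2_mem {K : Subgroup S6} {r s w : List ℕ} (hr : el r ∈ K) (hs : el s ∈ K)
    (hK : ∀ m < 9, el [m] ∈ K) (hw : ∀ m ∈ w, m < 11) : el (expW2 r s w) ∈ K := by
  induction w with
  | nil => exact (show el (expW2 r s []) = 1 from el_nil) ▸ one_mem K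
  | cons m w ih =>
    show el ((bif Nat.beq m 9 then r else bif Nat.beq m 10 then s else [m]) ++ expW2 r s w) ∈ K
    rw [el_append]
    refine mul_mem ?_ (ih fun a ha => hw a (List.mem_cons_of_mem _ ha))
    have := hw m List.mem_cons_self
    by_cases h9 : m = 9
    · rw [show Nat.beq m 9 = true from Nat.beq_eq.symm ▸ h9]; exact hr
    by_cases h10 : m = 10
    · rw [beqF h9, show Nat.beq m 10 = true from Nat.beq_eq.symm ▸ h10]; exact hs
    · rw [beqF h9, beqF h10]; exact hK m (by omega)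

theorem tau_not_mem (l : Fin 3) : el [9] ∉ Kg l := fun h => by
  have := (altMon_kg l _ _ (letr_mo 9)).1 h
  rw [tau_odd] at this
  exact absurd this (by decide)

theorem kg_ne {l m : Fin 3} (h : l < m) : Kg l ≠ Kg m := by
  intro e
  obtain ⟨z, hz, h1, h2⟩ := pair_cover l m h
  have hc := List.all_eq_true.1 pair_ok z hz
  simp only [Bool.and_eq_true] at hc
  obtain ⟨⟨⟨hw, hw0⟩, hm⟩, heq⟩ := hc
  have hr : el (Data.rK.getD z.1 []) ∈ Kg l := by rw [h1]; exact el_r l
  have hs : el (Data.rK.getD z.2.1 []) ∈ Kg l := by rw [h2, e]; exact el_r m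
  have e1 := el_eq heq
  rw [el_append, el_append] at e1
  have hA := expW2_mem hr hs (fun a ha => el_gl l ha) fun a ha => Cover.okW_mem hw ha
  have hB := expW2_mem hr hs (fun a ha => el_gl l ha) fun a ha => Cover.okW_mem hw0 ha
  have hM : el z.2.2.2.2 ∈ Kg l := el_mem fun a ha => el_gl l (Cover.okW_mem hm ha)
  refine tau_not_mem l ?_
  rw [e1] at hA
  exact (Subgroup.mul_mem_cancel_left _ (mul_mem hB hM)).1 hA

theorem tau_sq : el [9] * el [9] = 1 := by
  rw [← el_append, ← el_nil]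
  exact el_eq (by decide +kernel)

theorem cj_tau (l : Fin 3) : cj (el [9]) (Kg l) = Kg l := by
  refine Subgroup.eq_of_le_of_card_ge ?_ (card_cj _ _).ge
  rw [cj, Subgroup.map_le_iff_le_comap, Kg, Subgroup.closure_le]
  rintro _ ⟨m, rfl⟩
  show el [9] * gl l m * (el [9])⁻¹ ∈ Kg l
  rw [show (el [9])⁻¹ = el [9] from inv_eq_of_mul_eq_one_right tau_sq]
  show el [9] * el (locW l m) * el [9] ∈ Kg l
  by_cases hm : m.val = 9
  · rw [locW, show Nat.beq m.val 9 = true from Nat.beq_eq.symm ▸ hm, cond_true]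
    have h := allF_iff.1 tau_ok l l.2
    simp only [Bool.and_eq_true] at h
    have e1 := el_eq h.2
    rw [el_append, el_append] at e1
    rw [e1]
    have hw := fun a ha => Cover.okW_mem (w := Data.tauK.getD l []) h.1 (k := a) ha
    generalize Data.tauK.getD l [] = w at hw
    induction w with
    | nil => exact (show el (expW (Data.rK.getD l []) []) = 1 from el_nil) ▸ one_mem _
    | cons a w ih =>
      show el ((bif Nat.beq a 9 then Data.rK.getD l [] else [a]) ++ expW (Data.rK.getD l []) w) ∈ _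
      rw [el_append]
      refine mul_mem ?_ (ih fun b hb => hw b (List.mem_cons_of_mem _ hb))
      by_cases ha : a = 9
      · rw [show Nat.beq a 9 = true from Nat.beq_eq.symm ▸ ha]; exact el_r l
      · rw [beqF ha]; exact el_gl l (by have := hw a List.mem_cons_self; omega)
  · rw [locW, beqF hm, cond_false]
    have hlt : m.val < 9 := by omega
    obtain ⟨p, hp, hs⟩ := gl_sign hlt
    refine (altMon_kg l _ _ (((letr_mo 9).mul hp).mul (letr_mo 9))).2 ?_
    rw [map_mul, map_mul, hs, tau_odd]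
    decide

theorem exists_conj_into {G : Type} [Group G] [Finite G] {H P B : Subgroup G} [Fact (Nat.Prime 3)] (hP : P ≤ H)
    (hB : B ≤ H) (hcard : Nat.card P = 3 ^ (Nat.card H).factorization 3) (hp : IsPGroup 3 B) :
    ∃ k, k ∈ H ∧ ∀ x ∈ B, k * x * k⁻¹ ∈ P := by
  let S : Sylow 3 H := Sylow.ofCard (P.subgroupOf H) (by
    rw [Nat.card_congr (Subgroup.subgroupOfEquivOfLe hP).toEquiv]; exact hcard)
  have hB' : IsPGroup 3 (B.subgroupOf H) := hp.of_equiv (Subgroup.subgroupOfEquivOfLe hB).symm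
  obtain ⟨Q, hQ⟩ := hB'.exists_le_sylow
  obtain ⟨k, hk⟩ := MulAction.exists_smul_eq H Q S
  refine ⟨k.1, k.2, fun x hx => ?_⟩
  have : k * ⟨x, hB hx⟩ * k⁻¹ ∈ (k • Q : Sylow 3 H).toSubgroup := by
    rw [Sylow.coe_subgroup_smul, Subgroup.mem_pointwise_smul_iff_inv_smul_mem, MulAut.smul_def, ← map_inv,
      MulAut.conj_apply, show k⁻¹ * (k * ⟨x, hB hx⟩ * k⁻¹) * k⁻¹⁻¹ = ⟨x, hB hx⟩ by group]
    exact hQ hx
  rw [hk] at this
  exact this

theorem not_conj {l m : Fin 3} (h : l < m) : ¬ ∃ g : S6, cj g (Kg l) = Kg m := by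
  rintro ⟨g, hg⟩
  have hB : cj g Tor ≤ Kg m := hg ▸ Subgroup.map_mono (tor_le_kg l)
  haveI := Fact.mk Nat.prime_three
  have hPK : Psyl ≤ Kg m := fun x ⟨i, j, hx⟩ => (altMon_kg m x _ hx).2 (rot_sign i j)
  have hfac : (Nat.card (Kg m)).factorization 3 = 7 := by
    rw [card_kg, show 3 * 3265920 = 3 ^ 7 * 4480 by norm_num, Nat.factorization_mul (by norm_num) (by norm_num),
      Nat.prime_three.factorization_pow]
    simp [Nat.factorization_eq_zero_of_not_dvd (show ¬ 3 ∣ 4480 by norm_num)]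
  obtain ⟨k0, hk0K, hsub'⟩ := exists_conj_into (P := Psyl) (B := cj g Tor) hPK hB
    (by rw [card_psyl, hfac]; norm_num) (IsPGroup.of_card (n := 5) (by rw [card_cj, card_tor]; norm_num))
  obtain ⟨k, rfl⟩ : ∃ k : Kg m, k.1 = k0 := ⟨⟨k0, hk0K⟩, rfl⟩
  have hsub : cj (k.1 * g) Tor ≤ Psyl := by
    rw [← cj_cj]
    rintro _ ⟨x, hx, rfl⟩
    exact hsub' x hx
  have hT : cj (k.1 * g) Tor = Tor := comm_psyl hsub (by
    rintro _ ⟨x, hx, rfl⟩ _ ⟨y, hy, rfl⟩
    exact (tor_comm hx hy).map _) (by rw [card_cj, card_tor])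
  have hy : k.1 * g ∈ Mon := mon_of_norm fun s hs => hT ▸ Subgroup.mem_map_of_mem _ hs
  have hkm : cj k.1 (Kg m) = Kg m := Subgroup.ext fun x => by
    rw [mem_cj]
    exact ⟨fun h => by simpa [mul_assoc] using mul_mem (mul_mem k.2 h) (inv_mem k.2),
      fun h => mul_mem (mul_mem (inv_mem k.2) h) k.2⟩
  have hlm : cj (k.1 * g) (Kg l) = Kg m := by rw [← cj_cj, hg, hkm]
  have hsame : cj (k.1 * g) (Kg l) = Kg l := by
    obtain ⟨p, hp⟩ := hy
    have hev : ∀ x, (∃ p, Mo p x ∧ Perm.sign p = 1) → cj x (Kg l) = Kg l := fun x ⟨p, hp, hs⟩ => by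
      have hx := (altMon_kg l x p hp).2 hs
      exact Subgroup.ext fun a => by
        rw [mem_cj]
        exact ⟨fun h => by simpa [mul_assoc] using mul_mem (mul_mem hx h) (inv_mem hx),
          fun h => mul_mem (mul_mem (inv_mem hx) h) hx⟩
    rcases Int.units_eq_one_or (Perm.sign p) with hs | hs
    · exact hev _ ⟨p, hp, hs⟩
    · have hτ : Mo (letPerm 9 * p) (el [((9 : Fin 10) : ℕ)] * (k.1 * g)) := (letr_mo 9).mul hp
      have h1 := hev _ ⟨_, hτ, by rw [map_mul, tau_odd, hs]; decide⟩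
      rw [← cj_cj] at h1
      have h2 := congrArg (cj (el [9])) h1
      rw [cj_cj, show el [9] * el [((9 : Fin 10) : ℕ)] = 1 from tau_sq, cj_one, cj_tau] at h2
      exact h2
  exact kg_ne h (hsame.symm.trans hlm)

theorem main (F9' : Type) [Field F9'] [Fintype F9'] (hF9 : Fintype.card F9' = 9) :
    ∃ K₁ K₂ K₃ : Subgroup S6,
      (∀ K ∈ [K₁, K₂, K₃], Nat.card (Subgroup.center K) = 3 ∧
        Nonempty (K ⧸ Subgroup.center K ≃* Cfsg.PSU 4 F9' 3)) ∧
      (¬ ∃ g : S6, K₁.map (MulAut.conj g).toMonoidHom = K₂) ∧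
      (¬ ∃ g : S6, K₁.map (MulAut.conj g).toMonoidHom = K₃) ∧
      (¬ ∃ g : S6, K₂.map (MulAut.conj g).toMonoidHom = K₃) ∧
      ∀ K : Subgroup S6, Nat.card (Subgroup.center K) = 3 →
        Nonempty (K ⧸ Subgroup.center K ≃* Cfsg.PSU 4 F9' 3) →
        ∃ g : S6, K.map (MulAut.conj g).toMonoidHom = K₁ ∨ K.map (MulAut.conj g).toMonoidHom = K₂ ∨
          K.map (MulAut.conj g).toMonoidHom = K₃ := by
  let e9 : Schur.PSUFourThree.G ≃* Cfsg.PSU 4 F9' 3 := Schur.PSUFourThree.psuEquiv
    (FiniteField.ringEquivOfCardEq (CfsgLib.Chevalley.G2Two.F9.card_F9.trans hF9.symm))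
  refine ⟨Kg 0, Kg 1, Kg 2, fun K hK => ?_, not_conj (by decide), not_conj (by decide), not_conj (by decide),
    fun K hc hiso => ?_⟩
  · simp only [List.mem_cons, List.not_mem_nil, or_false] at hK
    obtain ⟨l, rfl⟩ : ∃ l, K = Kg l := by rcases hK with rfl | rfl | rfl <;> exact ⟨_, rfl⟩
    obtain ⟨e⟩ := quotient_iso l
    exact ⟨card_center l, ⟨e.trans e9⟩⟩
  · obtain ⟨e⟩ := hiso
    let f := e.trans e9.symm
    let C : Cover K :=
      { χ := Schur.PSUFourThree.phi.comp (f.toMonoidHom.comp (QuotientGroup.mk' (Subgroup.center K)))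
        range_eq := by
          rw [MonoidHom.range_comp, MonoidHom.range_eq_top.2 (f.surjective.comp (QuotientGroup.mk'_surjective _)),
            ← MonoidHom.range_eq_map]
        ker_eq := by
          ext x
          rw [MonoidHom.mem_ker, MonoidHom.comp_apply, map_eq_one_iff _ Schur.PSUFourThree.phi_injective,
            MonoidHom.comp_apply, MulEquiv.coe_toMonoidHom, MulEquiv.map_eq_one_iff, QuotientGroup.mk'_apply,
            QuotientGroup.eq_one_iff]
        card_centre := hc }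
    obtain ⟨g, l, hl⟩ := exists_cj_kg C
    refine ⟨g, ?_⟩
    fin_cases l
    exacts [Or.inl hl, Or.inr (Or.inl hl), Or.inr (Or.inr hl)]

end CfsgLib.Sporadic.U43InSU62
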