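import Cfsg.Agent.Lib.Sporadic.U43InSU62.Frames

/-!
# Kernel, centre and quotient of the three groups
-/

set_option autoImplicit false
set_option maxRecDepth 100000

open Matrix CfsgLib.Sporadic.OutCert Equiv

namespace CfsgLib.Sporadic.U43InSU62

open FieldFour CfsgLib.Schur

variable (l : Fin 3)

/-- The standard frame. -/
def zF : Fin 112 := ⟨zN l, (frame_data l).1⟩

theorem fv_std (k i : Fin 6) : fv l (zF l) k i = if i = k then 1 else 0 := by
  refine code_inj _ _ ?_
  rw [fv, vecOf_code, show (zF l).val = zN l from rfl, (frame_data l).2.1 k]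
  revert i k
  decide

theorem app_std (g : S6) (k : Fin 6) : app g (fv l (zF l) k) = fun i => ent g i k := by
  funext i
  rw [app_apply, Finset.sum_eq_single k (fun b _ hb => by rw [fv_std, if_neg hb, mul_zero]) (by simp), fv_std, if_pos rfl,
    mul_one]

theorem mon_iff (g : Kg l) : g.1 ∈ Mon ↔ theta l g (zF l) = zF l := by
  constructor
  · rintro ⟨p, hp⟩
    have h : app g.1 (fv l (zF l) 0) = ent g.1 (p 0) 0 • fv l (zF l) (p 0) := by
      rw [app_std]
      funext i
      rw [Pi.smul_apply, fv_std, smul_eq_mul]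
      by_cases e : i = p 0
      · subst e; simp
      · rw [hp i 0 e, if_neg e, mul_zero]
    refine Fin.ext ?_
    rw [← (theta_rel l g).fo l (zF l) 0, h, fo_fv l _ _ (hp.ne 0)]
  · intro h
    have hcol : ∀ k, ∃ k' : Fin 6, ∀ i, i ≠ k' → ent g.1 i k = 0 := fun k => by
      obtain ⟨k', c, -, e⟩ := theta_rel l g (zF l) k
      rw [h] at e
      refine ⟨k', fun i hi => ?_⟩
      have := congrFun e i
      rw [app_std, Pi.smul_apply, fv_std, if_neg hi, smul_zero] at this
      exact this
    choose f hf using hcol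
    have hsurj : Function.Surjective f := fun i => by
      obtain ⟨j, hj⟩ := exists_ne' g.1 i
      exact ⟨j, by_contra fun e => hj (hf j i (Ne.symm e))⟩
    exact ⟨Equiv.ofBijective f (Finite.surjective_iff_bijective.1 hsurj), fun i j hij => hf j i hij⟩

theorem el_gl {k : ℕ} (hk : k < 9) : el [k] ∈ Kg l := by
  have h := gl_mem l ⟨k, by omega⟩
  rwa [gl, locW, show Nat.beq k 9 = false from beqF (by omega)] at h

theorem tor_le_kg : Tor ≤ Kg l := tor_le fun k hk => el_gl l (by omega)

theorem el_r : el (Data.rK.getD l []) ∈ Kg l := gl_mem l 9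

theorem isScal_one : IsScal (1 : S6) := ⟨1, ent_one⟩

theorem IsScal.mul {g h : S6} (hg : IsScal g) (hh : IsScal h) : IsScal (g * h) := by
  obtain ⟨c, hc⟩ := hg
  obtain ⟨d, hd⟩ := hh
  refine ⟨c * d, fun i j => ?_⟩
  rw [ent_mul, Finset.sum_eq_single i (fun k _ hk => by rw [hc, if_neg (Ne.symm hk), zero_mul]) (by simp), hc,
    if_pos rfl, hd]
  split_ifs <;> simp

theorem IsScal.inv {g : S6} (hg : IsScal g) : IsScal g⁻¹ := by
  obtain ⟨c, hc⟩ := hg
  refine ⟨frob c, fun i j => ?_⟩
  rw [ent_inv, hc]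
  by_cases e : i = j
  · rw [if_pos e, if_pos e.symm]
  · rw [if_neg e, if_neg (Ne.symm e), map_zero]

/-- The scalars. -/
def Sc : Subgroup S6 where
  carrier := {g | IsScal g}
  one_mem' := isScal_one
  mul_mem' := IsScal.mul
  inv_mem' := IsScal.inv

theorem card_sc : Nat.card Sc = 3 := by
  have hz : ent (el Data.scalK) 0 0 = ofCode 2 := by
    refine code_inj _ _ ((el_rep _ 0 0).symm.trans ?_)
    have h := allF_iff.1 scal_ok.2.2.1 0 (by norm_num)
    exact (Nat.eq_of_beq_eq_true h).trans (by decide)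
  let f : Sc → {c : FieldFour // c ≠ 0} := fun g => ⟨ent g.1 0 0, fun h => by
    obtain ⟨c, hc⟩ := g.2
    rw [hc, if_pos rfl] at h
    obtain ⟨i, hi⟩ := exists_ne g.1 0
    rw [hc] at hi
    split_ifs at hi
    exacts [hi h, hi rfl]⟩
  have hinj : Function.Injective f := fun g g' e => by
    obtain ⟨c, hc⟩ := g.2
    obtain ⟨d, hd⟩ := g'.2
    have : c = d := by
      have := congrArg Subtype.val e
      simpa [f, hc, hd] using this
    exact Subtype.ext (ext_ent fun i j => by rw [hc, hd, this])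
  have hsurj : Function.Surjective f := by
    rintro ⟨c, hc⟩
    obtain ⟨z, hz'⟩ := scal_gen
    have ez : z = ofCode 2 := by rw [← hz, hz', if_pos rfl]
    have hcases : ∀ c : FieldFour, c ≠ 0 → c = 1 ∨ c = ofCode 2 ∨ c = ofCode 2 * ofCode 2 := by decide
    rcases hcases c hc with rfl | rfl | rfl
    · exact ⟨⟨1, isScal_one⟩, Subtype.ext ((ent_one 0 0).trans (if_pos rfl))⟩
    · exact ⟨⟨_, scal_gen⟩, Subtype.ext hz⟩
    · refine ⟨⟨_, scal_gen.mul scal_gen⟩, Subtype.ext ?_⟩
      show ent (el Data.scalK * el Data.scalK) 0 0 = _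
      rw [ent_mul, Finset.sum_eq_single 0 (fun k _ hk => by rw [hz', if_neg (Ne.symm hk), zero_mul]) (by simp), hz]
  rw [Nat.card_congr (Equiv.ofBijective f ⟨hinj, hsurj⟩), Nat.card_eq_fintype_card]
  rfl

theorem sc_le : Sc ≤ Tor := fun _ h => IsScal.mem_tor h

theorem theta_scal {g : Kg l} (hg : IsScal g.1) : theta l g = 1 := by
  obtain ⟨c, hc⟩ := hg
  have hc0 : c ≠ 0 := fun h => by
    obtain ⟨i, hi⟩ := exists_ne g.1 0
    rw [hc] at hi
    split_ifs at hi
    exacts [hi h, hi rfl]
  have : Rel l g.1 id := fun i k => ⟨k, c, hc0, funext fun a => by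
    rw [app_apply, Finset.sum_eq_single a (fun b _ hb => by rw [hc, if_neg (Ne.symm hb), zero_mul]) (by simp), hc,
      if_pos rfl, Pi.smul_apply, smul_eq_mul]
    rfl⟩
  exact Equiv.ext fun i => congrFun ((theta_rel l g).unique l this) i

theorem tor_ker {g : Kg l} (hg : g.1 ∈ Tor) (h : theta l g = 1) : IsScal g.1 := by
  obtain ⟨n, hn, e⟩ := tor_exists hg
  have ht := allF_iff.1 (allF_iff.1 torus_ok l l.2) n hn
  simp only [Bool.or_eq_true, List.any_eq_true, List.mem_range] at ht
  rcases ht with ht | ⟨i, hi, ht⟩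
  · refine ⟨ent g.1 0 0, fun a b => ?_⟩
    by_cases hab : a = b
    · subst hab
      rw [if_pos rfl]
      have := Nat.eq_of_beq_eq_true (allF_iff.1 ht a a.2)
      rw [show 7 * a.val = 6 * a.val + a.val by omega] at this
      refine code_inj _ _ ?_
      rw [e, ← el_rep (tw n) a a, ← el_rep (tw n) 0 0]
      exact this
    · rw [if_neg hab]; exact hg a b hab
  · exfalso
    have h2 := (theta_rel l g).fo l ⟨i, hi⟩ 0
    rw [h, Perm.one_apply, e, fv, vcd_smul (el_rep _)] at h2
    rw [show Nat.beq (foN l (mvK (wordK (tw n)) (fvN l i 0))) i = true from Nat.beq_eq.symm ▸ h2] at ht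
    exact Bool.false_ne_true ht

theorem perm_one_of_diag {p : Perm (Fin 6)}
    (h : ∀ m : Fin 5, ∃ c : FieldFour, ∀ k, ent (el [m.val]) (p k) (p k) = c * ent (el [m.val]) k k) : p = 1 := by
  have key : ∀ p : Perm (Fin 6), (∀ m : Fin 5, ∃ c : Fin 4, ∀ k : Fin 6,
      lk 2 (codeL m) (6 * (p k).val + (p k).val) = mulC c (lk 2 (codeL m) (6 * k.val + k.val))) → p = 1 := by
    decide +kernel
  refine key p fun m => ?_
  obtain ⟨c, hc⟩ := h m
  refine ⟨⟨code c, code_lt' c⟩, fun k => ?_⟩
  have hr : ∀ a : Fin 6, lk 2 (codeL m) (6 * a.val + a.val) = code (ent (el [m.val]) a a) := fun a => by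
    rw [el_single, letr_rep ⟨m.val, by omega⟩ a a,
      show Fin.ofNat 16 m.val = ⟨m.val, by omega⟩ from Fin.ext (Nat.mod_eq_of_lt (by omega))]
  rw [hr, hr, hc, code_mul]

theorem conj_diag {p : Perm (Fin 6)} {g s : S6} (hg : Mo p g) (hs : s ∈ Tor) (k : Fin 6) :
    ent (g * s * g⁻¹) (p k) (p k) = ent s k k := by
  have e1 : g * s * g⁻¹ * g = g * s := inv_mul_cancel_right _ _
  have hu := norm_tor hg hs
  have := congrArg (fun x => ent x (p k) k) e1
  simp only [Mo.ent_mul_right (show Mo 1 s from hs), Perm.coe_one, id] at this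
  rw [ent_mul, Finset.sum_eq_single (p k) (fun b _ hb => by rw [show ent (g * s * g⁻¹) (p k) b = 0 from
    hu _ _ (Ne.symm hb), zero_mul]) (by simp), mul_comm (ent g (p k) k)] at this
  exact mul_right_cancel₀ (hg.ne k) this

theorem ker_theta (g : Kg l) : g ∈ (theta l).ker ↔ IsScal g.1 := by
  refine ⟨fun h => ?_, theta_scal l⟩
  rw [MonoidHom.mem_ker] at h
  obtain ⟨p, hp⟩ := (mon_iff l g).2 (by rw [h]; rfl)
  have hp1 : p = 1 := perm_one_of_diag fun m => by
    have hs : el [m.val] ∈ Tor := letr_tor m.2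
    let S : Kg l := ⟨el [m.val], tor_le_kg l hs⟩
    have hu := norm_tor hp hs
    let U : Kg l := ⟨g.1 * el [m.val] * g.1⁻¹ * (el [m.val])⁻¹,
      mul_mem (mul_mem (mul_mem g.2 S.2) (inv_mem g.2)) (inv_mem S.2)⟩
    have hU : theta l U = 1 := by
      rw [show U = g * S * g⁻¹ * S⁻¹ from rfl, map_mul, map_mul, map_mul, map_inv, map_inv, h, one_mul, inv_one,
        mul_one, mul_inv_cancel]
    obtain ⟨c, hc⟩ := tor_ker l (g := U) (mul_mem hu (inv_mem hs)) hU
    refine ⟨c⁻¹, fun k => ?_⟩
    have e : U.1 * el [m.val] = g.1 * el [m.val] * g.1⁻¹ := inv_mul_cancel_right _ _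
    have := congrArg (fun x => ent x (p k) (p k)) e
    simp only [conj_diag hp hs k] at this
    rw [ent_mul, Finset.sum_eq_single (p k) (fun b _ hb => by rw [hc, if_neg (Ne.symm hb), zero_mul]) (by simp),
      hc, if_pos rfl] at this
    rw [← this, inv_mul_cancel_left₀ fun h0 => by
      obtain ⟨i, hi⟩ := exists_ne U.1 0
      rw [hc] at hi
      split_ifs at hi
      exacts [hi h0, hi rfl]]
  subst hp1
  exact tor_ker l hp h

theorem card_RG : Nat.card RG = 3265920 :=
  (Nat.card_congr (MonoidHom.ofInjective PSUFourThree.phi_injective).toEquiv).symm.trans PSUFourThree.card_G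

theorem card_ker : Nat.card (theta l).ker = 3 := by
  rw [← card_sc]
  exact Nat.card_congr
    { toFun := fun g => ⟨g.1.1, (ker_theta l g.1).1 g.2⟩
      invFun := fun g => ⟨⟨g.1, tor_le_kg l (sc_le g.2)⟩, (ker_theta l _).2 g.2⟩
      left_inv := fun g => rfl
      right_inv := fun g => rfl }

theorem card_kg : Nat.card (Kg l) = 3 * 3265920 := by
  rw [← (theta l).ker.card_mul_index, card_ker, Subgroup.index_ker, range_theta, card_RG]

theorem center_kg : Subgroup.center (Kg l) = (theta l).ker := by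
  refine le_antisymm (fun g hg => ?_) fun g hg => ?_
  · rw [Subgroup.mem_center_iff] at hg
    have hc : ∀ s ∈ Tor, g.1 * s * g.1⁻¹ = s := fun s hs => by
      have := congrArg Subtype.val (hg ⟨s, tor_le_kg l hs⟩)
      show g.1 * s * g.1⁻¹ = s
      rw [show g.1 * s = s * g.1 from this.symm, mul_inv_cancel_right]
    obtain ⟨p, hp⟩ := mon_of_norm fun s hs => by rw [hc s hs]; exact hs
    have hp1 : p = 1 := perm_one_of_diag fun m => ⟨1, fun k => by
      rw [one_mul, ← conj_diag hp (letr_tor m.2) k, hc _ (letr_tor m.2)]⟩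
    subst hp1
    refine (ker_theta l g).2 ⟨ent g.1 0 0, fun a b => ?_⟩
    have hcyc : ∀ m : Fin 10, 5 ≤ m.val → m.val < 9 → ∀ k, ent g.1 (letPerm m k) (letPerm m k) = ent g.1 k k := by
      intro m h5 h9 k
      have := congrArg (fun x : Kg l => ent x.1 (letPerm m k) k) (hg ⟨el [m.val], el_gl l h9⟩)
      simp only [Subgroup.coe_mul, Mo.ent_mul_right (letr_mo m)] at this
      rw [Mo.ent_mul_right hp, Perm.coe_one, id, mul_comm] at this
      exact mul_right_cancel₀ ((letr_mo m).ne k) this.symm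
    by_cases hab : a = b
    · subst hab
      rw [if_pos rfl]
      have e1 := hcyc 5 le_rfl (by decide) 0
      have e2 := hcyc 5 le_rfl (by decide) 1
      have e3 := hcyc 6 (by decide) (by decide) 1
      have e3' := hcyc 6 (by decide) (by decide) 2
      have e4 := hcyc 7 (by decide) (by decide) 2
      have e4' := hcyc 7 (by decide) (by decide) 3
      have e5 := hcyc 8 (by decide) (by decide) 3
      have e5' := hcyc 8 (by decide) (by decide) 4
      simp [letPerm, Equiv.swap_apply_def] at e1 e2 e3 e3' e4 e4' e5 e5'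
      fin_cases a <;> simp_all
    · rw [if_neg hab]; exact hp a b hab
  · rw [Subgroup.mem_center_iff]
    exact fun x => Subtype.ext (((ker_theta l g).1 hg).comm x.1).eq.symm

theorem quotient_iso : Nonempty (Kg l ⧸ Subgroup.center (Kg l) ≃* PSUFourThree.G) :=
  ⟨(QuotientGroup.quotientMulEquivOfEq (center_kg l)).trans
    ((QuotientGroup.quotientKerEquivRange (theta l)).trans
      ((MulEquiv.subgroupCongr (range_theta l)).trans (MonoidHom.ofInjective PSUFourThree.phi_injective).symm))⟩

theorem card_center : Nat.card (Subgroup.center (Kg l)) = 3 := by rw [center_kg, card_ker]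

theorem reach (i : Fin 112) : ∃ g : PSUFourThree.G, PSUFourThree.phi g 0 = i := by
  have h := allF_iff.1 reach_ok i i.2
  simp only [Bool.and_eq_true] at h
  refine ⟨(((Data.reachK.getD i []).map fun a => Fin.ofNat 2 a).map PSUFourThree.gen).prod, Fin.ext ?_⟩
  rw [← lineImg_phi, okW_fin h.1]
  exact Nat.eq_of_beq_eq_true h.2

/-- The image of the torus. -/
noncomputable def Abar : Subgroup (Perm (Fin 112)) := (Tor.subgroupOf (Kg 0)).map (theta 0)

/-- The stabiliser of the standard frame in the model. -/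
noncomputable def Stb : Subgroup (Perm (Fin 112)) := RG ⊓ MulAction.stabilizer (Perm (Fin 112)) (zF 0)

theorem abar_le : Abar ≤ RG := (Subgroup.map_le_range _ _).trans (range_theta 0).le

theorem card_abar : Nat.card Abar = 81 := by
  let f : (Tor.subgroupOf (Kg 0)) →* Perm (Fin 112) := (theta 0).comp (Subgroup.subtype _)
  have h1 : Nat.card (Tor.subgroupOf (Kg 0)) = 243 :=
    (Nat.card_congr (Subgroup.subgroupOfEquivOfLe (tor_le_kg 0)).toEquiv).trans card_tor
  have hr : f.range = Abar := by rw [MonoidHom.range_comp, Subgroup.range_subtype]; rfl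
  have hk : Nat.card f.ker = 3 := by
    refine Eq.trans ?_ (card_ker 0)
    exact Nat.card_congr
      { toFun := fun g => ⟨g.1.1, g.2⟩
        invFun := fun g => ⟨⟨g.1, sc_le ((ker_theta 0 g.1).1 g.2)⟩, g.2⟩
        left_inv := fun g => rfl
        right_inv := fun g => rfl }
  have h := f.ker.card_mul_index
  rw [h1, hk, Subgroup.index_ker, hr] at h
  omega

theorem abar_fix {a : Perm (Fin 112)} (ha : a ∈ Abar) : a (zF 0) = zF 0 := by
  obtain ⟨s, hs, rfl⟩ := ha
  exact (mon_iff 0 s).1 (tor_le_mon hs)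

theorem norm_abar {g : Perm (Fin 112)} (hg : g ∈ RG) :
    (∀ a ∈ Abar, g * a * g⁻¹ ∈ Abar) ↔ g ∈ Stb := by
  constructor
  · intro h
    refine ⟨hg, ?_⟩
    show g (zF 0) = zF 0
    have hfix : ∀ a ∈ Abar, a (g⁻¹ (zF 0)) = g⁻¹ (zF 0) := fun a ha => by
      have := abar_fix (h a ha)
      rw [Perm.mul_apply, Perm.mul_apply] at this
      exact Perm.eq_inv_iff_eq.2 this
    have honly := allF_iff.1 (allF_iff.1 only_ok 0 (by norm_num)) _ (g⁻¹ (zF 0)).2
    simp only [Bool.or_eq_true, List.any_eq_true, List.mem_range] at honly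
    rcases honly with he | ⟨m, hm, he⟩
    · have : g⁻¹ (zF 0) = zF 0 := Fin.ext (Nat.eq_of_beq_eq_true he)
      rw [Perm.inv_eq_iff_eq] at this
      exact this.symm
    · exfalso
      have hgl : gl 0 ⟨m, by omega⟩ ∈ Tor := by
        rw [gl, locW, show Nat.beq m 9 = false from beqF (by omega)]; exact letr_tor hm
      have := congrArg Fin.val (hfix _ ⟨⟨gl 0 ⟨m, by omega⟩, gl_mem 0 _⟩, hgl, rfl⟩)
      rw [theta_gl] at this
      simp only [Fin.val_zero] at this
      rw [this, Nat.beq_refl] at he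
      exact Bool.false_ne_true he
  · rintro ⟨-, hz⟩ a ⟨s, hs, rfl⟩
    obtain ⟨h, rfl⟩ := (range_theta 0).ge hg
    change theta 0 h (zF 0) = zF 0 at hz
    obtain ⟨p, hp⟩ := (mon_iff 0 h).2 hz
    exact ⟨h * s * h⁻¹, norm_tor hp hs, by rw [map_mul, map_mul, map_inv]⟩

theorem card_stab (i : Fin 112) : Nat.card (MulAction.stabilizer RG i) = 29160 := by
  have htrans : MulAction.IsPretransitive RG (Fin 112) := by
    refine ⟨fun x y => ?_⟩
    obtain ⟨a, ha⟩ := reach x
    obtain ⟨b, hb⟩ := reach y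
    refine ⟨⟨PSUFourThree.phi (b * a⁻¹), _, rfl⟩, ?_⟩
    show PSUFourThree.phi (b * a⁻¹) x = y
    rw [← ha, map_mul, map_inv, Perm.mul_apply, ← Perm.mul_apply (PSUFourThree.phi a)⁻¹, inv_mul_cancel,
      Perm.one_apply, hb]
  have h := (MulAction.stabilizer RG i).card_mul_index
  rw [MulAction.index_stabilizer_of_transitive, card_RG, Nat.card_fin] at h
  omega

theorem card_stb : Nat.card Stb = 29160 := by
  rw [← card_stab (zF 0)]
  exact Nat.card_congr
    { toFun := fun g => ⟨⟨g.1, g.2.1⟩, g.2.2⟩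
      invFun := fun g => ⟨g.1.1, ⟨g.1.2, g.2⟩⟩
      left_inv := fun g => rfl
      right_inv := fun g => rfl }

end CfsgLib.Sporadic.U43InSU62
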