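import Cfsg.Agent.Lib.Sporadic.U43InSU62.Comm
import Cfsg.Agent.Lib.Sporadic.U43InSU62.Blocks

/-!
# A triple cover containing the torus is one of the three groups
-/

set_option autoImplicit false
set_option maxRecDepth 100000
set_option maxHeartbeats 400000

open Matrix CfsgLib.Sporadic.OutCert Equiv

namespace CfsgLib.Sporadic.U43InSU62

open FieldFour

theorem scal_of_comm {z : S6} (hT : ∀ s ∈ Tor, z * s * z⁻¹ = s)
    (hC : ∀ m : Fin 10, 5 ≤ m.val → m.val < 9 → Commute z (el [m.val])) : IsScal z := by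
  obtain ⟨p, hp⟩ := mon_of_norm fun s hs => by rw [hT s hs]; exact hs
  have hp1 : p = 1 := perm_one_of_diag fun m => ⟨1, fun k => by
    rw [one_mul, ← conj_diag hp (letr_tor m.2) k, hT _ (letr_tor m.2)]⟩
  subst hp1
  refine ⟨ent z 0 0, fun a b => ?_⟩
  have hcyc : ∀ m : Fin 10, 5 ≤ m.val → m.val < 9 → ∀ k, ent z (letPerm m k) (letPerm m k) = ent z k k := by
    intro m h5 h9 k
    have := congrArg (fun x => ent x (letPerm m k) k) (hC m h5 h9).eq
    simp only [Mo.ent_mul_right (letr_mo m), Mo.ent_mul_right hp, Perm.coe_one, id] at this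
    rw [mul_comm (ent (el [m.val]) (letPerm m k) k)] at this
    exact mul_right_cancel₀ ((letr_mo m).ne k) this
  by_cases hab : a = b
  · subst hab
    rw [if_pos rfl]
    have e1 := hcyc 5 le_rfl (by decide) 0
    have e2 := hcyc 5 le_rfl (by decide) 1
    have e3 := hcyc 6 (by decide) (by decide) 1
    have e3' := hcyc 6 (by decide) (by decide) 2
    have e4 := hcyc 7 (by decide) (by decide) 2
    have e4' := hcyc 7 (by decide) (by decide) 3
    have e5 := hcyc 8 (by decide) (by decide) 3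
    have e5' := hcyc 8 (by decide) (by decide) 4
    simp [letPerm, Equiv.swap_apply_def] at e1 e2 e3 e3' e4 e4' e5 e5'
    fin_cases a <;> simp_all
  · rw [if_neg hab]; exact hp a b hab

theorem letPerm_sign : ∀ k : Fin 9, Perm.sign (letPerm k.castSucc) = 1 := by decide +kernel

theorem tau_odd : Perm.sign (letPerm 9) = -1 := by decide +kernel

theorem gl_sign {k : ℕ} (hk : k < 9) : ∃ p, Mo p (el [k]) ∧ Perm.sign p = 1 :=
  ⟨_, letr_mo (Fin.castSucc ⟨k, hk⟩), letPerm_sign ⟨k, hk⟩⟩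

/-- Membership of monomial elements. -/
def AltMon (K : Subgroup S6) : Prop := ∀ g p, Mo p g → (g ∈ K ↔ Perm.sign p = 1)

theorem altMon_of_card {K : Subgroup S6} (hT : Tor ≤ K) (hcard : Nat.card (Mon ⊓ K : Subgroup S6) = 87480) :
    AltMon K := by
  classical
  let f : (Mon ⊓ K : Subgroup S6) →* Perm (Fin 6) := prm.comp (Subgroup.inclusion inf_le_left)
  have hk : Nat.card f.ker = 243 := by
    rw [← card_tor]
    exact Nat.card_congr
      { toFun := fun g => ⟨g.1.1, mem_tor_iff.2 g.2⟩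
        invFun := fun g => ⟨⟨g.1, tor_le_mon g.2, hT g.2⟩, mem_tor_iff.1 g.2⟩
        left_inv := fun g => rfl
        right_inv := fun g => rfl }
  have hr : Nat.card f.range = 360 := by
    have h := f.ker.card_mul_index
    rw [hk, Subgroup.index_ker, hcard] at h
    omega
  have halt : f.range = alternatingGroup (Fin 6) := by
    refine Perm.eq_alternatingGroup_of_index_eq_two ?_
    have h := f.range.card_mul_index
    rw [hr, Nat.card_eq_fintype_card, Fintype.card_perm, Fintype.card_fin] at h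
    norm_num [Nat.factorial] at h
    omega
  intro g p hp
  constructor
  · intro hg
    have : p ∈ f.range := ⟨⟨g, ⟨p, hp⟩, hg⟩, prm_eq hp⟩
    rw [halt] at this
    exact this
  · intro hs
    obtain ⟨k, hk'⟩ : p ∈ f.range := by rw [halt]; exact hs
    have hm : Mo p k.1 := by
      have := prm_spec ⟨k.1, k.2.1⟩
      rwa [show prm ⟨k.1, k.2.1⟩ = p from hk'] at this
    have : g * k.1⁻¹ ∈ Tor := by
      show Mo 1 _
      have := hp.mul hm.inv
      rwa [mul_inv_cancel] at this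
    have := mul_mem (hT this) k.2.2
    rwa [inv_mul_cancel_right] at this

theorem altMon_kg (l : Fin 3) : AltMon (Kg l) := by
  refine altMon_of_card (tor_le_kg l) ?_
  let H : Subgroup (Kg l) := Mon.subgroupOf (Kg l)
  have e : Nat.card (Mon ⊓ Kg l : Subgroup S6) = Nat.card H :=
    Nat.card_congr
      { toFun := fun g => ⟨⟨g.1, g.2.2⟩, g.2.1⟩
        invFun := fun g => ⟨g.1.1, g.2, g.1.2⟩
        left_inv := fun g => rfl
        right_inv := fun g => rfl }
  let f : H →* RG := ((theta l).comp H.subtype).codRestrict RG fun g => (range_theta l).le ⟨g.1, rfl⟩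
  have hr : f.range = MulAction.stabilizer RG (zF l) := by
    refine le_antisymm ?_ fun a ha => ?_
    · rintro _ ⟨g, rfl⟩
      exact (mon_iff l g.1).1 g.2
    · obtain ⟨g, hg⟩ := (range_theta l).ge a.2
      refine ⟨⟨g, (mon_iff l g).2 ?_⟩, Subtype.ext hg⟩
      rw [hg]
      exact ha
  have hk : Nat.card f.ker = 3 := by
    refine Eq.trans ?_ (card_ker l)
    exact Nat.card_congr
      { toFun := fun g => ⟨g.1.1, congrArg Subtype.val (MonoidHom.mem_ker.1 g.2)⟩
        invFun := fun g => ⟨⟨g.1, tor_le_mon (sc_le ((ker_theta l g.1).1 g.2))⟩, Subtype.ext g.2⟩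
        left_inv := fun g => rfl
        right_inv := fun g => rfl }
  rw [e, ← f.ker.card_mul_index, hk, Subgroup.index_ker, hr, card_stab]

theorem gl_eq (l : Fin 3) (m : Fin 10) : gl l m = el (locW l m) := rfl

theorem expW_nil (r : List ℕ) : el (expW r []) = 1 := rfl

attribute [local irreducible] theta gl el t0 wordK

namespace Cover

variable {K : Subgroup S6} (C : Cover K)

section

variable (hT : C.liftTor = Tor)
include hT

theorem tor_le_K : Tor ≤ K := fun g hg => by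
  rw [← hT] at hg
  obtain ⟨u, -, rfl⟩ := hg
  exact u.2

theorem chi_tor (u : K) : C.χ u ∈ Abar ↔ u.1 ∈ Tor := by
  rw [← hT]
  constructor
  · exact fun h => ⟨u, h, rfl⟩
  · rintro ⟨v, hv, e⟩
    rwa [← Subtype.ext (e : v.1 = u.1)]

theorem mon_iff_stb (u : K) : u.1 ∈ Mon ↔ C.χ u ∈ Stb := by
  rw [← norm_abar (C.range_eq.le ⟨u, rfl⟩)]
  constructor
  · rintro ⟨p, hp⟩ a ha
    obtain ⟨v, rfl⟩ := C.range_eq.ge (abar_le ha)
    rw [← map_mul, ← map_inv, ← map_mul, C.chi_tor hT]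
    exact norm_tor hp ((C.chi_tor hT v).1 ha)
  · intro h
    refine mon_of_norm fun s hs => ?_
    have := h _ ((C.chi_tor hT ⟨s, C.tor_le_K hT hs⟩).2 hs)
    rw [← map_mul, ← map_inv, ← map_mul, C.chi_tor hT] at this
    exact this

theorem card_mon : Nat.card (Mon ⊓ K : Subgroup S6) = 87480 := by
  let H : Subgroup K := Stb.comap C.χ
  have e : Nat.card (Mon ⊓ K : Subgroup S6) = Nat.card H :=
    Nat.card_congr
      { toFun := fun g => ⟨⟨g.1, g.2.2⟩, (C.mon_iff_stb hT ⟨g.1, g.2.2⟩).1 g.2.1⟩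
        invFun := fun g => ⟨g.1.1, (C.mon_iff_stb hT g.1).2 g.2, g.1.2⟩
        left_inv := fun g => rfl
        right_inv := fun g => rfl }
  let f : H →* Perm (Fin 112) := C.χ.comp H.subtype
  have hr : f.range = Stb := by
    refine le_antisymm ?_ fun a ha => ?_
    · rintro _ ⟨g, rfl⟩; exact g.2
    · obtain ⟨u, hu⟩ := C.range_eq.ge ha.1
      exact ⟨⟨u, by rw [Subgroup.mem_comap, hu]; exact ha⟩, hu⟩
  have hk : Nat.card f.ker = 3 := by
    refine Eq.trans ?_ (C.ker_eq ▸ C.card_centre : Nat.card C.χ.ker = 3)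
    exact Nat.card_congr
      { toFun := fun g => ⟨g.1.1, g.2⟩
        invFun := fun g => ⟨⟨g.1, by rw [Subgroup.mem_comap, MonoidHom.mem_ker.1 g.2]; exact one_mem _⟩, g.2⟩
        left_inv := fun g => rfl
        right_inv := fun g => rfl }
  rw [e, ← f.ker.card_mul_index, hk, Subgroup.index_ker, hr, card_stb]

theorem altMon : AltMon K := altMon_of_card (C.tor_le_K hT) (C.card_mon hT)

theorem centre_scal {z : K} (hz : C.χ z = 1) : IsScal z.1 := by
  refine scal_of_comm (fun s hs => ?_) fun m h5 h9 => ?_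
  · have := ((C.ker_comm hz ⟨s, C.tor_le_K hT hs⟩).map K.subtype).eq
    show z.1 * s * z.1⁻¹ = s
    rw [show z.1 * s = s * z.1 from this, mul_inv_cancel_right]
  · obtain ⟨p, hp, hs⟩ := gl_sign h9
    exact (C.ker_comm hz ⟨_, ((C.altMon hT) _ p hp).2 hs⟩).map K.subtype

theorem psyl_le : Psyl ≤ K := fun g ⟨i, j, h⟩ => ((C.altMon hT) g _ h).2 (rot_sign i j)

omit hT in
theorem psyl_t0 {g : S6} (hg : g ∈ Psyl) : Commute g t0 := by
  obtain ⟨i, j, h⟩ := hg
  refine ext_ent fun a b => ?_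
  rw [Mo.ent_mul_right (show Mo 1 t0 from t0_tor), ent_mul, Finset.sum_eq_single a
    (fun k _ hk => by rw [t0_ent, if_neg (Ne.symm hk), zero_mul]) (by simp), Perm.coe_one, id, t0_ent, t0_ent,
    if_pos rfl, if_pos rfl]
  by_cases e : a = rot i j b
  · rw [e, rot_blk]; exact mul_comm _ _
  · rw [h a b e, zero_mul, mul_zero]

/-- Conjugating the lift of the Sylow subgroup to the Sylow subgroup. -/
theorem exists_conj : ∃ n : (Mon ⊓ K : Subgroup S6), ∀ x : S6, ∀ hx : x ∈ Psyl, ∃ y : Kg 0, y.1 ∈ Psyl ∧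
    theta 0 y = C.χ (⟨n.1, n.2.2⟩⁻¹ * ⟨x, C.psyl_le hT hx⟩ * ⟨n.1, n.2.2⟩) := by
  classical
  set P0 : Subgroup (Perm (Fin 112)) := (Psyl.subgroupOf (Kg 0)).map (theta 0) with hP0
  let N : Subgroup S6 := Mon ⊓ K
  let M : Subgroup N := (P0.comap C.χ).comap (Subgroup.inclusion inf_le_right)
  let P : Subgroup N := Psyl.subgroupOf N
  have hPN : Psyl ≤ N := le_inf psyl_mon (C.psyl_le hT)
  have hPcard : Nat.card P = 2187 :=
    (Nat.card_congr (Subgroup.subgroupOfEquivOfLe hPN).toEquiv).trans card_psyl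
  have hPsK : Psyl ≤ Kg 0 := fun g ⟨i, j, h⟩ => (altMon_kg 0 g _ h).2 (rot_sign i j)
  have hP0le : P0 ≤ Stb := by
    rintro _ ⟨g, hg, rfl⟩
    exact ⟨(range_theta 0).le ⟨g, rfl⟩, (mon_iff 0 g).1 (psyl_mon hg)⟩
  have hP0card : Nat.card P0 = 729 := by
    let f : Psyl.subgroupOf (Kg 0) →* Perm (Fin 112) := (theta 0).comp (Subgroup.subtype _)
    have hr : f.range = P0 := by rw [MonoidHom.range_comp, Subgroup.range_subtype]
    have hk : Nat.card f.ker = 3 := by
      refine Eq.trans ?_ (card_ker 0)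
      exact Nat.card_congr
        { toFun := fun g => ⟨g.1.1, g.2⟩
          invFun := fun g => ⟨⟨g.1, tor_psyl (sc_le ((ker_theta 0 g.1).1 g.2))⟩, g.2⟩
          left_inv := fun g => rfl
          right_inv := fun g => rfl }
    have h := f.ker.card_mul_index
    rw [hk, Subgroup.index_ker, hr, (Nat.card_congr (Subgroup.subgroupOfEquivOfLe hPsK).toEquiv).trans card_psyl] at h
    omega
  have hMcard : Nat.card M = 2187 := by
    let f : M →* Perm (Fin 112) := (C.χ.comp (Subgroup.inclusion inf_le_right)).comp M.subtype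
    have hr : f.range = P0 := by
      refine le_antisymm ?_ fun a ha => ?_
      · rintro _ ⟨g, rfl⟩; exact g.2
      · obtain ⟨u, hu⟩ := C.range_eq.ge (hP0le ha).1
        exact ⟨⟨⟨u.1, (C.mon_iff_stb hT u).2 (hu.symm ▸ hP0le ha), u.2⟩, show C.χ u ∈ P0 from hu.symm ▸ ha⟩, hu⟩
    have hk : Nat.card f.ker = 3 := by
      refine Eq.trans ?_ (C.ker_eq ▸ C.card_centre : Nat.card C.χ.ker = 3)
      exact Nat.card_congr
        { toFun := fun g => ⟨Subgroup.inclusion inf_le_right g.1.1, g.2⟩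
          invFun := fun g => ⟨⟨⟨g.1.1, tor_le_mon (IsScal.mem_tor (C.centre_scal hT g.2)), g.1.2⟩,
            show C.χ g.1 ∈ P0 by rw [MonoidHom.mem_ker.1 g.2]; exact one_mem _⟩, g.2⟩
          left_inv := fun g => rfl
          right_inv := fun g => rfl }
    rw [← f.ker.card_mul_index, hk, Subgroup.index_ker, hr, hP0card]
  haveI := Fact.mk Nat.prime_three
  have hfac : (Nat.card N).factorization 3 = 7 := by
    rw [show Nat.card N = 3 ^ 7 * 40 from (C.card_mon hT).trans (by norm_num),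
      Nat.factorization_mul (by norm_num) (by norm_num), Nat.prime_three.factorization_pow]
    simp [Nat.factorization_eq_zero_of_not_dvd (show ¬ 3 ∣ 40 by norm_num)]
  let SM : Sylow 3 N := Sylow.ofCard M (by rw [hMcard, hfac]; norm_num)
  let SP : Sylow 3 N := Sylow.ofCard P (by rw [hPcard, hfac]; norm_num)
  obtain ⟨n, hn⟩ := MulAction.exists_smul_eq N SM SP
  have hmove : ∀ x : N, x.1 ∈ Psyl → n⁻¹ * x * n ∈ M := by
    intro x hx
    have : x ∈ (n • SM : Sylow 3 N).toSubgroup := by rw [hn]; exact hx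
    rw [Sylow.coe_subgroup_smul, Subgroup.mem_pointwise_smul_iff_inv_smul_mem, MulAut.smul_def,
      ← map_inv, MulAut.conj_apply, inv_inv] at this
    exact this
  refine ⟨n, fun x hx => ?_⟩
  obtain ⟨y, hy, hy'⟩ := hmove ⟨x, hPN hx⟩ hx
  exact ⟨y, hy, hy'⟩

theorem lift_t0 : ∃ t' : K, t'.1 ∈ Tor ∧ C.χ t' = theta 0 ⟨t0, tor_le_kg 0 t0_tor⟩ := by
  obtain ⟨t', ht'⟩ := C.exists_lift ⟨t0, tor_le_kg 0 t0_tor⟩
  refine ⟨t', (C.chi_tor hT t').1 ?_, ht'⟩
  rw [ht']
  exact Subgroup.mem_map_of_mem _ (Subgroup.mem_subgroupOf.2 t0_tor)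

omit hT in
/-- A diagonal function with two rotations multiplying it by constants is constant on the blocks. -/
theorem blk_const {d : Fin 6 → FieldFour} (hd : d 0 * d 1 * d 2 * d 3 * d 4 * d 5 = 1) {c c' : FieldFour}
    (h5 : ∀ a, d (letPerm 5 a) = c * d a) (h8 : ∀ a, d (letPerm 8 a) = c' * d a) (a : Fin 6) :
    d a = if blkC a then d 0 else d 3 := by
  have hlp5 : ∀ a : Fin 6, letPerm 5 a = ![1, 2, 0, 3, 4, 5] a := by decide +kernel
  have hlp8 : ∀ a : Fin 6, letPerm 8 a = ![0, 1, 2, 4, 5, 3] a := by decide +kernel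
  have a0 := h5 0
  have a1 := h5 1
  have a2 := h5 2
  have a3 := h5 3
  have a4 := h5 4
  have a5 := h5 5
  have b0 := h8 0
  have b1 := h8 1
  have b2 := h8 2
  have b3 := h8 3
  have b4 := h8 4
  have b5 := h8 5
  rw [hlp5] at a0 a1 a2 a3 a4 a5
  rw [hlp8] at b0 b1 b2 b3 b4 b5
  have hne : ∀ x : FieldFour, x ≠ 0 → ∀ z, z * x = x → z = 1 := fun x hx z h => mul_eq_right₀ hx |>.1 h
  have h3 : d 3 ≠ 0 := fun h => by rw [h] at hd; simp at hd
  have h0 : d 0 ≠ 0 := fun h => by rw [h] at hd; simp at hd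
  have hc : c = 1 := hne _ h3 c a3.symm
  have hc' : c' = 1 := hne _ h0 c' b0.symm
  subst hc hc'
  simp only [one_mul] at a0 a1 b3 b4
  fin_cases a
  · rfl
  · exact a0
  · exact (show d 2 = d 1 from a1).trans a0
  · rfl
  · exact b3
  · exact (show d 5 = d 4 from b4).trans b3

omit hT in
theorem torus_det {t : S6} (ht : t ∈ Tor) :
    ent t 0 0 * ent t 1 1 * ent t 2 2 * ent t 3 3 * ent t 4 4 * ent t 5 5 = 1 := by
  have hdiag : (t.1 : Matrix (Fin 6) (Fin 6) FieldFour) = diagonal fun a => ent t a a := Matrix.ext fun a b => by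
    by_cases e : a = b
    · subst e; rw [diagonal_apply_eq]
    · rw [diagonal_apply_ne _ e]; exact ht a b e
  have := t.1.2
  rw [hdiag, det_diagonal] at this
  simpa only [Fin.prod_univ_six] using this

omit hT in
theorem IsScal.conj_eq {t n : S6} (h : IsScal t) : n * t * n⁻¹ = t := by
  rw [← (h.comm n).eq, mul_inv_cancel_right]

omit hT in
theorem rot_t0 : (gl 0 9 : S6) * t0 = t0 * gl 0 9 := by
  rw [gl, t0, ← el_append, ← el_append]
  exact el_eq (by decide +kernel)

omit hT in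
theorem rot_moves : pmN ((0 : Fin 3) : ℕ) ((9 : Fin 10) : ℕ) (zN ((0 : Fin 3) : ℕ)) ≠ zN ((0 : Fin 3) : ℕ) := by
  decide +kernel

omit hT in
theorem scal_coef_ne {g : S6} {c : FieldFour} (hc : ∀ i j, ent g i j = if i = j then c else 0) : c ≠ 0 := fun h0 => by
  obtain ⟨i, hi⟩ := exists_ne g 0
  rw [hc] at hi
  split_ifs at hi
  exacts [hi h0, hi rfl]

omit hT in
theorem field_eigen : ∀ c x y : FieldFour, x ≠ 0 → y ≠ 0 → x ≠ y → (c * x = x ∨ c * x = y) →
    (c * y = x ∨ c * y = y) → c = 1 := by decide +kernel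

/-- An element outside the monomial group commuting with the torus element with two eigenvalues. -/
theorem exists_block : ∃ g ∈ K, g ∉ Mon ∧ ∀ a b : Fin 6, blkC a ≠ blkC b → ent g a b = 0 := by
  classical
  obtain ⟨n, hn⟩ := C.exists_conj hT
  obtain ⟨t', ht'T, ht'⟩ := C.lift_t0 hT
  obtain ⟨q, hq⟩ := n.2.1
  let nK : K := ⟨n.1, n.2.2⟩
  obtain ⟨t'', ht''⟩ : ∃ t'' : K, t'' = nK * t' * nK⁻¹ := ⟨_, rfl⟩
  have ht''v : t''.1 = n.1 * t'.1 * n.1⁻¹ := by rw [ht'', Subgroup.coe_mul, Subgroup.coe_mul, Subgroup.coe_inv]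
  have ht''T : t''.1 ∈ Tor := ht''v ▸ norm_tor hq ht'T
  have hcomm : ∀ x : S6, x ∈ Psyl → ∀ p, Mo p x → ∃ c : FieldFour, ∀ a,
      ent t''.1 (p a) (p a) = c * ent t''.1 a a := by
    intro x hx p hp
    obtain ⟨y, hy, hy'⟩ := hn x hx
    let xK : K := ⟨x, C.psyl_le hT hx⟩
    change theta 0 y = C.χ (nK⁻¹ * xK * nK) at hy'
    have hyt : theta 0 y * theta 0 ⟨t0, tor_le_kg 0 t0_tor⟩ = theta 0 ⟨t0, tor_le_kg 0 t0_tor⟩ * theta 0 y := by
      rw [← map_mul, ← map_mul]
      exact congrArg _ (Subtype.ext (psyl_t0 hy).eq)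
    have hxt : C.χ (nK⁻¹ * xK * nK * t' * (nK⁻¹ * xK * nK)⁻¹ * t'⁻¹) = 1 := by
      rw [map_mul, map_mul _ _ (nK⁻¹ * xK * nK)⁻¹, map_mul _ _ t', map_inv _ (nK⁻¹ * xK * nK), map_inv _ t', ← hy',
        ht', hyt, mul_inv_cancel_right, mul_inv_cancel]
    have hxt' : C.χ (xK * t'' * xK⁻¹ * t''⁻¹) = 1 := by
      rw [show xK * t'' * xK⁻¹ * t''⁻¹ =
        nK * (nK⁻¹ * xK * nK * t' * (nK⁻¹ * xK * nK)⁻¹ * t'⁻¹) * nK⁻¹ by rw [ht'']; group,
        map_mul, map_mul, hxt, mul_one, map_inv, mul_inv_cancel]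
    obtain ⟨c, hc⟩ := C.centre_scal hT hxt'
    refine ⟨c⁻¹, fun a => ?_⟩
    have e : (xK * t'' * xK⁻¹ * t''⁻¹).1 * t''.1 = x * t''.1 * x⁻¹ := by
      rw [Subgroup.coe_mul _ _ t''⁻¹, Subgroup.coe_inv, inv_mul_cancel_right, Subgroup.coe_mul, Subgroup.coe_mul, Subgroup.coe_inv]
    have := congrArg (fun z => ent z (p a) (p a)) e
    simp only [conj_diag hp ht''T a] at this
    rw [ent_mul, Finset.sum_eq_single (p a) (fun b _ hb => by rw [hc, if_neg (Ne.symm hb), zero_mul]) (by simp),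
      hc, if_pos rfl] at this
    rw [← this, inv_mul_cancel_left₀ (scal_coef_ne hc)]
  let d : Fin 6 → FieldFour := fun a => ent t''.1 a a
  have hd : d 0 * d 1 * d 2 * d 3 * d 4 * d 5 = 1 := torus_det ht''T
  obtain ⟨c5, hc5⟩ := hcomm (el [5]) ⟨1, 0, by have := el_mem_psyl 1 0; simpa using this⟩ _ (letr_mo 5)
  obtain ⟨c8, hc8⟩ := hcomm (el [8]) ⟨0, 1, by have := el_mem_psyl 0 1; simpa using this⟩ _ (letr_mo 8)
  have hdblk : ∀ a, d a = if blkC a then d 0 else d 3 := blk_const (d := d) hd hc5 hc8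
  have hsep : d 0 ≠ d 3 := fun e => by
    have hs : IsScal t''.1 := ⟨d 0, fun a b => by
      by_cases hab : a = b
      · subst hab
        rw [if_pos rfl]
        show d a = d 0
        rw [hdblk a]
        split_ifs
        exacts [rfl, e.symm]
      · rw [if_neg hab]; exact ht''T a b hab⟩
    have hz : t'.1 = t''.1 := by
      have := IsScal.conj_eq hs (n := n.1⁻¹)
      rw [ht''v] at this ⊢
      rw [← this]
      group
    have h1 : C.χ t' = 1 := by
      have hzc : t' ∈ Subgroup.center K := Subgroup.mem_center_iff.2 fun x => Subtype.ext (by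
        show x.1 * t'.1 = t'.1 * x.1
        rw [hz]; exact (hs.comm x.1).eq.symm)
      rw [← C.ker_eq] at hzc
      exact hzc
    rw [ht'] at h1
    obtain ⟨c, hc⟩ := (ker_theta 0 _).1 h1
    have h03 : ent t0 0 0 = ent t0 3 3 := (hc 0 0).trans (hc 3 3).symm
    rw [t0_ent, t0_ent] at h03
    exact absurd h03 (by decide)
  obtain ⟨g', hg'⟩ := C.exists_lift ⟨gl 0 9, gl_mem 0 9⟩
  have hg'mon : g'.1 ∉ Mon := fun h => by
    have h1 := ((C.mon_iff_stb hT g').1 h).2
    rw [hg'] at h1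
    have h1' : theta 0 ⟨gl 0 9, gl_mem 0 9⟩ (zF 0) = zF 0 := h1
    have h2 := congrArg Fin.val h1'
    rw [theta_gl] at h2
    exact rot_moves h2
  refine ⟨n.1 * g'.1 * n.1⁻¹, mul_mem (mul_mem n.2.2 g'.2) (inv_mem n.2.2), fun h => hg'mon ?_, ?_⟩
  · have hnM : n.1 ∈ Mon := n.2.1
    have h' := mul_mem (mul_mem (inv_mem hnM) h) hnM
    rwa [show n.1⁻¹ * (n.1 * g'.1 * n.1⁻¹) * n.1 = g'.1 by group] at h'
  obtain ⟨gK, hgK⟩ : ∃ gK : K, gK = nK * g' * nK⁻¹ := ⟨_, rfl⟩
  have hgKv : gK.1 = n.1 * g'.1 * n.1⁻¹ := by rw [hgK, Subgroup.coe_mul, Subgroup.coe_mul, Subgroup.coe_inv]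
  have hgt : C.χ (gK * t'' * gK⁻¹ * t''⁻¹) = 1 := by
    rw [show gK * t'' * gK⁻¹ * t''⁻¹ = nK * (g' * t' * g'⁻¹ * t'⁻¹) * nK⁻¹ by rw [hgK, ht'']; group,
      map_mul, map_mul, map_mul, map_mul, map_mul, map_inv, map_inv, map_inv, hg', ht', ← map_mul (theta 0),
      show (⟨gl 0 9, gl_mem 0 9⟩ : Kg 0) * ⟨t0, tor_le_kg 0 t0_tor⟩ =
        ⟨t0, tor_le_kg 0 t0_tor⟩ * ⟨gl 0 9, gl_mem 0 9⟩ from Subtype.ext rot_t0,
      map_mul, mul_inv_cancel_right, mul_inv_cancel, mul_one, mul_inv_cancel]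
  obtain ⟨c, hc⟩ := C.centre_scal hT hgt
  have e : (gK * t'' * gK⁻¹ * t''⁻¹).1 * (t''.1 * gK.1) = gK.1 * t''.1 := by
    simp only [Subgroup.coe_mul, Subgroup.coe_inv]
    group
  have hent : ∀ a b, c * (d a * ent gK.1 a b) = ent gK.1 a b * d b := by
    intro a b
    have h1 := congrArg (fun z => ent z a b) e
    simp only [Mo.ent_mul_right (show Mo 1 t''.1 from ht''T), Perm.coe_one, id] at h1
    rw [ent_mul, Finset.sum_eq_single a (fun k _ hk => by rw [hc, if_neg (Ne.symm hk), zero_mul]) (by simp), hc,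
      if_pos rfl, ent_mul, Finset.sum_eq_single a (fun k _ hk => by
        rw [show ent t''.1 a k = 0 from ht''T a k (Ne.symm hk), zero_mul]) (by simp)] at h1
    exact h1
  have hc1 : c = 1 := by
    have key : ∀ a, c * d a = d 0 ∨ c * d a = d 3 := fun a => by
      obtain ⟨b, hb⟩ := exists_ne' gK.1 a
      have h1 := hent a b
      rw [← mul_assoc, mul_comm (ent gK.1 a b)] at h1
      rw [mul_right_cancel₀ hb h1, hdblk b]
      split_ifs
      exacts [Or.inl rfl, Or.inr rfl]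
    have h0 : d 0 ≠ 0 := fun h => by rw [h] at hd; simp at hd
    have h3 : d 3 ≠ 0 := fun h => by rw [h] at hd; simp at hd
    exact field_eigen c _ _ h0 h3 hsep (key 0) (key 3)
  intro a b hab
  rw [← hgKv]
  by_contra hne
  have h1 := hent a b
  rw [hc1, one_mul, mul_comm (d a)] at h1
  have hd' : d a = d b := mul_left_cancel₀ hne h1
  rw [hdblk a, hdblk b] at hd'
  cases ha : blkC a <;> cases hb : blkC b <;> simp only [ha, hb, Bool.false_eq_true, if_true, if_false] at hd'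
  exacts [hab (ha.trans hb.symm), hsep hd'.symm, hsep hd', hab (ha.trans hb.symm)]

theorem mem_kg_le {l : Fin 3} (h : el (Data.rK.getD l []) ∈ K) : Kg l ≤ K := by
  refine (Subgroup.closure_le _).2 ?_
  rintro _ ⟨m, rfl⟩
  by_cases hm : m.val = 9
  · show gl l m ∈ K
    rw [gl_eq, locW, show Nat.beq m.val 9 = true from Nat.beq_eq.symm ▸ hm]
    exact h
  · show gl l m ∈ K
    rw [gl_eq, locW, beqF hm]
    obtain ⟨p, hp, hs⟩ := gl_sign (show m.val < 9 by omega)
    exact ((C.altMon hT) _ p hp).2 hs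

theorem expW_mem {r w : List ℕ} (hr : el r ∈ K) (hw : ∀ m ∈ w, m < 10) : el (expW r w) ∈ K := by
  induction w with
  | nil => rw [expW_nil]; exact one_mem K
  | cons m w ih =>
    show el ((bif Nat.beq m 9 then r else [m]) ++ expW r w) ∈ K
    rw [el_append]
    refine mul_mem ?_ (ih fun a ha => hw a (List.mem_cons_of_mem _ ha))
    have := hw m List.mem_cons_self
    by_cases hm : m = 9
    · rw [show Nat.beq m 9 = true from Nat.beq_eq.symm ▸ hm]; exact hr
    · rw [beqF hm]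
      obtain ⟨p, hp, hs⟩ := gl_sign (show m < 9 by omega)
      exact ((C.altMon hT) _ p hp).2 hs

include C in
theorem main : ∃ l, Kg l = K := by
  classical
  obtain ⟨g, hgK, hgm, hblk⟩ := C.exists_block hT
  -- columns
  have hunit : ∀ k, ∑ a, ent g a k * ent g a k * ent g a k = 1 := fun k => by
    have := congrArg (fun x => ent x k k) (inv_mul_cancel g)
    simp only [ent_mul, ent_inv, ent_one, if_pos] at this
    rw [← this]
    exact Finset.sum_congr rfl fun a _ => rfl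
  have horth : ∀ k k', k ≠ k' → ∑ a, frob (ent g a k) * ent g a k' = 0 := fun k k' h => by
    have := congrArg (fun x => ent x k k') (inv_mul_cancel g)
    simp only [ent_mul, ent_inv, ent_one, if_neg h] at this
    exact this
  have z12 : ∀ a b : Fin 6, a.val < 3 → 3 ≤ b.val → ent g a b = 0 := fun a b ha hb => hblk a b (by
    simp only [blkC]
    rw [show Nat.blt a.val 3 = true from Nat.blt_eq.symm ▸ ha, show Nat.blt b.val 3 = false from
      Bool.eq_false_iff.2 (by rw [Ne, Nat.blt_eq]; omega)]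
    decide)
  have z21 : ∀ a b : Fin 6, 3 ≤ a.val → b.val < 3 → ent g a b = 0 := fun a b ha hb => hblk a b (by
    simp only [blkC]
    rw [show Nat.blt b.val 3 = true from Nat.blt_eq.symm ▸ hb, show Nat.blt a.val 3 = false from
      Bool.eq_false_iff.2 (by rw [Ne, Nat.blt_eq]; omega)]
    decide)
  let vL : Fin 3 → Fin 3 → FieldFour := fun k =>
    ![ent g 0 (Fin.castAdd 3 k), ent g 1 (Fin.castAdd 3 k), ent g 2 (Fin.castAdd 3 k)]
  let vR : Fin 3 → Fin 3 → FieldFour := fun k =>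
    ![ent g 3 (Fin.natAdd 3 k), ent g 4 (Fin.natAdd 3 k), ent g 5 (Fin.natAdd 3 k)]
  have hL : ∃ i : Fin 4, ∀ k, MonoVec i (vL k) := by
    have hu : ∀ k : Fin 3, ent g 0 (Fin.castAdd 3 k) * ent g 0 (Fin.castAdd 3 k) * ent g 0 (Fin.castAdd 3 k) +
        ent g 1 (Fin.castAdd 3 k) * ent g 1 (Fin.castAdd 3 k) * ent g 1 (Fin.castAdd 3 k) +
        ent g 2 (Fin.castAdd 3 k) * ent g 2 (Fin.castAdd 3 k) * ent g 2 (Fin.castAdd 3 k) = 1 := fun k => by
      have := hunit (Fin.castAdd 3 k)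
      rw [Fin.sum_univ_six, z21 3 _ le_rfl k.2, z21 4 _ (by decide) k.2, z21 5 _ (by decide) k.2] at this
      simpa using this
    obtain ⟨i, hi⟩ := unit_mono _ _ _ (hu 0)
    refine ⟨i, fun k => ?_⟩
    by_cases hk : k = 0
    · subst hk; exact hi
    refine orth_mono _ _ _ (hu 0) _ _ _ (hu k) ?_ i hi
    have := horth (Fin.castAdd 3 0) (Fin.castAdd 3 k) (fun e => hk (Fin.castAdd_injective _ _ e).symm)
    rw [Fin.sum_univ_six, z21 3 (Fin.castAdd 3 k) le_rfl k.2, z21 4 (Fin.castAdd 3 k) (by decide) k.2,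
      z21 5 (Fin.castAdd 3 k) (by decide) k.2] at this
    simpa using this
  have hR : ∃ i : Fin 4, ∀ k, MonoVec i (vR k) := by
    have hlt : ∀ k : Fin 3, 3 ≤ (Fin.natAdd 3 k : Fin 6).val := fun k => by simp
    have hu : ∀ k : Fin 3, ent g 3 (Fin.natAdd 3 k) * ent g 3 (Fin.natAdd 3 k) * ent g 3 (Fin.natAdd 3 k) +
        ent g 4 (Fin.natAdd 3 k) * ent g 4 (Fin.natAdd 3 k) * ent g 4 (Fin.natAdd 3 k) +
        ent g 5 (Fin.natAdd 3 k) * ent g 5 (Fin.natAdd 3 k) * ent g 5 (Fin.natAdd 3 k) = 1 := fun k => by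
      have := hunit (Fin.natAdd 3 k)
      rw [Fin.sum_univ_six, z12 0 _ (by decide) (hlt k), z12 1 _ (by decide) (hlt k),
        z12 2 _ (by decide) (hlt k)] at this
      simpa using this
    obtain ⟨i, hi⟩ := unit_mono _ _ _ (hu 0)
    refine ⟨i, fun k => ?_⟩
    by_cases hk : k = 0
    · subst hk; exact hi
    refine orth_mono _ _ _ (hu 0) _ _ _ (hu k) ?_ i hi
    have := horth (Fin.natAdd 3 (0 : Fin 3)) (Fin.natAdd 3 k) (fun e => hk (Fin.ext (by have := congrArg Fin.val e; simp at this; simpa [eq_comm] using this)))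
    rw [Fin.sum_univ_six, z12 0 _ (by decide) (hlt k), z12 1 _ (by decide) (hlt k),
      z12 2 _ (by decide) (hlt k)] at this
    simpa using this
  obtain ⟨i, hi⟩ := hL
  obtain ⟨j, hj⟩ := hR
  set x := el (candB i j) with hx
  have hxe : ∀ a b, ent x a b = bd i j a b := fun a b =>
    code_inj _ _ ((el_rep _ a b).symm.trans (cand_val i j a b))
  set y := x⁻¹ * g with hy
  have hye : ∀ a b, ent y a b = ∑ c, frob (bd i j c a) * ent g c b := fun a b => by
    rw [hy, ent_mul]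
    exact Finset.sum_congr rfl fun c _ => by rw [ent_inv, hxe]
  have hcol : ∀ b : Fin 6, ∃ k : Fin 6, ∀ a, a ≠ k → ent y a b = 0 := by
    intro b
    obtain ⟨k, hk | hk⟩ : ∃ k : Fin 3, b = Fin.castAdd 3 k ∨ b = Fin.natAdd 3 k := by revert b; decide
    · subst hk
      obtain ⟨k', hk'⟩ := hi k
      refine ⟨Fin.castAdd 3 k', fun a ha => ?_⟩
      rw [hye, Fin.sum_univ_six, z21 3 _ le_rfl k.2, z21 4 _ (by decide) k.2, z21 5 _ (by decide) k.2]
      obtain ⟨a', rfl | rfl⟩ : ∃ a' : Fin 3, a = Fin.castAdd 3 a' ∨ a = Fin.natAdd 3 a' := by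
        clear ha; revert a; decide
      · have := hk' a' fun e => ha (by rw [e])
        simpa [bd, vL] using this
      · simp [bd]
    · subst hk
      obtain ⟨k', hk'⟩ := hj k
      have hlt : 3 ≤ (Fin.natAdd 3 k : Fin 6).val := by simp
      refine ⟨Fin.natAdd 3 k', fun a ha => ?_⟩
      rw [hye, Fin.sum_univ_six, z12 0 _ (by decide) hlt, z12 1 _ (by decide) hlt, z12 2 _ (by decide) hlt]
      obtain ⟨a', rfl | rfl⟩ : ∃ a' : Fin 3, a = Fin.castAdd 3 a' ∨ a = Fin.natAdd 3 a' := by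
        clear ha; revert a; decide
      · simp [bd]
      · have := hk' a' fun e => ha (by rw [e])
        simpa [bd, vR] using this
  choose f hf using hcol
  have hsurj : Function.Surjective f := fun a => by
    obtain ⟨b, hb⟩ := exists_ne' y a
    exact ⟨b, by_contra fun e => hb (hf b a (Ne.symm e))⟩
  set p := Equiv.ofBijective f (Finite.surjective_iff_bijective.1 hsurj) with hpdef
  have hp : Mo p y := fun a b h => hf b a h
  have hgxy : g = x * y := by rw [hy, mul_inv_cancel_left]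
  have hcand : ∃ t : Bool, el (candW i j t) ∈ K := by
    have hcw : ∀ t, el (candW i j t) = x * (bif t then el [9] else 1) := fun t => by
      rw [hx, ← el_nil]
      cases t <;> simp only [candW, candB, cond_true, cond_false, el_append, mul_assoc]
    rcases Int.units_eq_one_or (Perm.sign p) with hs | hs
    · refine ⟨false, ?_⟩
      rw [hcw]
      show x * 1 ∈ K
      rw [mul_one, show x = g * y⁻¹ by rw [hgxy, mul_inv_cancel_right]]
      exact mul_mem hgK (inv_mem (((C.altMon hT) y p hp).2 hs))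
    · refine ⟨true, ?_⟩
      rw [hcw]
      show x * el [9] ∈ K
      have hτ : Mo ((letPerm 9)⁻¹ * p) ((el [((9 : Fin 10) : ℕ)])⁻¹ * y) := (letr_mo 9).inv.mul hp
      have := ((C.altMon hT) _ _ hτ).2 (by rw [map_mul, map_inv, tau_odd, hs]; decide)
      rw [show x * el [9] = g * ((el [((9 : Fin 10) : ℕ)])⁻¹ * y)⁻¹ by
        rw [hgxy]; simp [mul_assoc]]
      exact mul_mem hgK (inv_mem this)
  obtain ⟨t, ht⟩ := hcand
  rcases cand_cover i j t with ⟨h1, h2⟩ | hbad | hgood
  · refine absurd ?_ hgm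
    have hx1 : x = 1 := by
      rw [hx, candB, show Nat.beq i.val 0 = true from Nat.beq_eq.symm ▸ h1,
        show Nat.beq j.val 0 = true from Nat.beq_eq.symm ▸ h2]
      simp [el_nil]
    rw [hgxy, hx1, one_mul]
    exact ⟨p, hp⟩
  · exfalso
    obtain ⟨z, hz, e⟩ := List.mem_map.1 hbad
    rw [← e] at ht
    have h := List.all_eq_true.1 bad_ok z hz
    simp only [Bool.and_eq_true] at h
    obtain ⟨⟨⟨hw, hw0⟩, hm⟩, heq⟩ := h
    have e1 := el_eq heq
    rw [el_append, el_append] at e1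
    have h9 : el [9] ∈ K := by
      have := mul_mem (mul_mem (inv_mem (expW_mem C hT (r := z.1) (w := []) ht (by simp)))
        (mul_mem (inv_mem (mul_mem (expW_mem C hT ht fun a ha => okW_mem hw0 ha)
          (el_mem fun a ha => by
            obtain ⟨q, hq, hs⟩ := gl_sign (okW_mem hm ha)
            exact ((C.altMon hT) _ q hq).2 hs)))
          (expW_mem C hT ht fun a ha => okW_mem hw ha))) (one_mem K)
      rw [e1] at this
      simpa [expW, el_nil, mul_assoc] using this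
    have := ((C.altMon hT) _ _ (letr_mo 9)).1 h9
    rw [tau_odd] at this
    exact absurd this (by decide)
  · obtain ⟨z, hz, e⟩ := List.mem_map.1 hgood
    rw [← e] at ht
    have h := List.all_eq_true.1 good_ok z hz
    simp only [Bool.and_eq_true, Nat.blt_eq] at h
    obtain ⟨⟨hl, hw⟩, heq⟩ := h
    refine ⟨⟨z.2.1, hl⟩, Subgroup.eq_of_le_of_card_ge (C.mem_kg_le hT ?_) (by rw [card_kg, C.card_K])⟩
    rw [el_eq heq]
    exact expW_mem C hT ht fun a ha => okW_mem hw ha

end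

end Cover

end CfsgLib.Sporadic.U43InSU62
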