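import Cfsg.Agent.Lib.Sporadic.U43InSU62.Model

/-!
# The Sylow 3-subgroup of `SU₆(2)` and its abelian subgroups of order 243
-/

set_option autoImplicit false
set_option maxRecDepth 100000

open Matrix CfsgLib.Sporadic.OutCert Equiv

namespace CfsgLib.Sporadic.U43InSU62

open FieldFour

/-- Block rotations. -/
def rot (i j : Fin 3) : Perm (Fin 6) := letPerm 5 ^ i.val * letPerm 8 ^ j.val

theorem rot_mul : ∀ i j i' j' : Fin 3, rot i j * rot i' j' = rot (i + i') (j + j') := by decide +kernel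

theorem rot_inj : ∀ i j i' j' : Fin 3, rot i j = rot i' j' → i = i' ∧ j = j' := by decide +kernel

theorem rot_zero : rot 0 0 = 1 := by decide +kernel

theorem rot_apply : ∀ i j : Fin 3, ∀ k : Fin 6,
    (rot i j k).val = bif Nat.blt k.val 3 then (k.val + i.val) % 3 else 3 + (k.val + j.val) % 3 := by decide +kernel

theorem rot_sign : ∀ i j : Fin 3, Perm.sign (rot i j) = 1 := by decide +kernel

theorem rot_blk : ∀ i j : Fin 3, ∀ k : Fin 6, blkC (rot i j k) = blkC k := by decide +kernel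

/-- The Sylow subgroup. -/
def Psyl : Subgroup S6 where
  carrier := {g | ∃ i j : Fin 3, Mo (rot i j) g}
  one_mem' := ⟨0, 0, by rw [rot_zero]; exact Mo.one⟩
  mul_mem' := fun ⟨i, j, h⟩ ⟨i', j', h'⟩ => ⟨i + i', j + j', by rw [← rot_mul]; exact h.mul h'⟩
  inv_mem' := fun ⟨i, j, h⟩ => ⟨-i, -j, by
    have e : (rot i j)⁻¹ = rot (-i) (-j) := inv_eq_of_mul_eq_one_right (by
      rw [rot_mul, add_neg_cancel, add_neg_cancel, rot_zero])
    rw [← e]; exact h.inv⟩

theorem el_mem_psyl (i j : Fin 3) : Mo (rot i j) (el [5] ^ i.val * el [8] ^ j.val) := by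
  have hp : ∀ (k : Fin 10) (n : ℕ), Mo (letPerm k ^ n) (el [k.val] ^ n) := by
    intro k n
    induction n with
    | zero => rw [pow_zero, pow_zero]; exact Mo.one
    | succ n ih => rw [pow_succ, pow_succ]; exact ih.mul (letr_mo k)
  exact (hp 5 i.val).mul (hp 8 j.val)

theorem psyl_mon : Psyl ≤ Mon := fun _ ⟨_, _, h⟩ => ⟨_, h⟩

theorem tor_psyl : Tor ≤ Psyl := fun _ h => ⟨0, 0, by rw [rot_zero]; exact h⟩

theorem card_psyl : Nat.card Psyl = 2187 := by
  let f : Psyl →* Perm (Fin 6) := prm.comp (Subgroup.inclusion psyl_mon)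
  have hf : ∀ g : Psyl, ∀ i j, Mo (rot i j) g.1 → f g = rot i j := fun g i j h => prm_eq h
  have hr : Nat.card f.range = 9 := by
    let e : Fin 3 × Fin 3 → f.range := fun x => ⟨rot x.1 x.2,
      ⟨⟨_, x.1, x.2, el_mem_psyl x.1 x.2⟩, hf _ _ _ (el_mem_psyl x.1 x.2)⟩⟩
    rw [← Nat.card_congr (Equiv.ofBijective e ⟨fun x y h => Prod.ext (rot_inj _ _ _ _ (congrArg Subtype.val h)).1
      (rot_inj _ _ _ _ (congrArg Subtype.val h)).2, fun ⟨p, g, hg⟩ => by
        obtain ⟨i, j, h⟩ := g.2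
        exact ⟨(i, j), Subtype.ext ((hf g i j h).symm.trans hg)⟩⟩), Nat.card_prod, Nat.card_fin]
  have hk : Nat.card f.ker = 243 := by
    rw [← card_tor]
    exact Nat.card_congr
      { toFun := fun g => ⟨g.1.1, mem_tor_iff.2 g.2⟩
        invFun := fun g => ⟨⟨g.1, tor_psyl g.2⟩, mem_tor_iff.1 g.2⟩
        left_inv := fun g => rfl
        right_inv := fun g => rfl }
  have h := f.ker.card_mul_index
  rw [hk, Subgroup.index_ker, hr] at h
  exact h.symm

theorem card_S6 : ∃ m : ℕ, Nat.card S6 = 3 ^ 7 * m ∧ ¬ 3 ∣ m := by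
  have hF : Fintype.card FieldFour = 2 ^ 2 := card_eq
  have h := (Classical.card_SU_mul (n := 6) hF (by norm_num)).trans (Classical.card_GU hF 6)
  norm_num [Finset.prod_range_succ] at h
  have h' : 3 * Nat.card S6 = _ := h
  refine ⟨Nat.card S6 / 3 ^ 7, ?_, ?_⟩ <;> norm_num <;> omega

theorem exists_conj_psyl {B : Subgroup S6} (hB : IsPGroup 3 B) :
    ∃ g : S6, ∀ x ∈ B, g * x * g⁻¹ ∈ Psyl := by
  haveI := Fact.mk Nat.prime_three
  obtain ⟨m, hm, h3⟩ := card_S6
  have hfac : (Nat.card S6).factorization 3 = 7 := by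
    rw [hm, Nat.factorization_mul (by norm_num) (fun e => h3 (by rw [e]; exact dvd_zero 3)),
      Nat.prime_three.factorization_pow]
    simp [Nat.factorization_eq_zero_of_not_dvd h3]
  let P : Sylow 3 S6 := Sylow.ofCard Psyl (by rw [card_psyl, hfac]; norm_num)
  obtain ⟨Q, hQ⟩ := hB.exists_le_sylow
  obtain ⟨g, hg⟩ := MulAction.exists_smul_eq S6 Q P
  refine ⟨g, fun x hx => ?_⟩
  have : g * x * g⁻¹ ∈ (g • Q : Sylow 3 S6).toSubgroup := by
    rw [Sylow.coe_subgroup_smul, Subgroup.mem_pointwise_smul_iff_inv_smul_mem, MulAut.smul_def,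
      ← map_inv, MulAut.conj_apply, show g⁻¹ * (g * x * g⁻¹) * g⁻¹⁻¹ = x by group]
    exact hQ hx
  rw [hg] at this
  exact this

/-- An abelian subgroup of order 243 of the Sylow subgroup is the torus. -/
theorem comm_psyl {B : Subgroup S6} (hle : B ≤ Psyl) (hc : ∀ x ∈ B, ∀ y ∈ B, Commute x y)
    (hcard : Nat.card B = 243) : B = Tor := by
  let f : B →* Perm (Fin 6) := prm.comp (Subgroup.inclusion (hle.trans psyl_mon))
  have hf : ∀ g : B, ∃ i j, Mo (rot i j) g.1 ∧ f g = rot i j := fun g => by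
    obtain ⟨i, j, h⟩ := hle g.2
    exact ⟨i, j, h, prm_eq h⟩
  have hker : ∀ g : B, g ∈ f.ker ↔ g.1 ∈ Tor := fun g =>
    (mem_tor_iff (g := Subgroup.inclusion (hle.trans psyl_mon) g)).symm
  -- the part in the torus is fixed by the permutations
  have hfix : ∀ g : B, ∀ i j : Fin 3, Mo (rot i j) g.1 → Nat.card f.ker ≤ fixCount i j := by
    intro g i j hg
    classical
    let S := (List.range 243).filter fun n =>
      let M := wordK (tw n)
      allF (fun k => Nat.beq (lk 2 M (7 * k))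
        (lk 2 M (7 * (bif Nat.blt k 3 then (k + i.val) % 3 else 3 + (k + j.val) % 3)))) 6
    have key : ∀ s : f.ker, ∃ n ∈ S, s.1.1 = el (tw n) := by
      intro s
      have hs := (hker s.1).1 s.2
      obtain ⟨n, hn, e⟩ := tor_exists hs
      refine ⟨n, List.mem_filter.2 ⟨List.mem_range.2 hn, allF_iff.2 fun k hk => ?_⟩, e⟩
      have hcj := conj_diag hg hs ⟨k, hk⟩
      rw [show g.1 * s.1.1 * g.1⁻¹ = s.1.1 from by rw [(hc _ g.2 _ s.1.2).eq, mul_inv_cancel_right], e] at hcj
      have h7 : ∀ a : Fin 6, lk 2 (wordK (tw n)) (7 * a.val) = code (ent (el (tw n)) a a) := fun a => by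
        rw [show 7 * a.val = 6 * a.val + a.val by omega]; exact el_rep (tw n) a a
      refine Nat.beq_eq.symm ▸ ?_
      rw [← rot_apply i j ⟨k, hk⟩, h7, h7 ⟨k, hk⟩, hcj]
    choose n hn hne using key
    let φ : f.ker → {x // x ∈ S.toFinset} := fun s => ⟨n s, List.mem_toFinset.2 (hn s)⟩
    have hinj : Function.Injective φ := fun s t e => Subtype.ext (Subtype.ext (by
      rw [hne s, hne t, show n s = n t from congrArg Subtype.val e]))
    refine (Nat.card_le_card_of_injective φ hinj).trans ?_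
    rw [Nat.card_eq_fintype_card, Fintype.card_coe]
    exact List.toFinset_card_le _
  have hmul : Nat.card f.ker * Nat.card f.range = 243 := by
    rw [← hcard, ← f.ker.card_mul_index, Subgroup.index_ker]
  by_contra hne
  -- some element permutes
  obtain ⟨g, hg⟩ : ∃ g : B, g ∉ f.ker := by
    by_contra! hall
    refine hne (Subgroup.eq_of_le_of_card_ge (fun x hx => (hker ⟨x, hx⟩).1 (hall ⟨x, hx⟩)) ?_)
    rw [hcard, card_tor]
  obtain ⟨i, j, hm, hfg⟩ := hf g
  have hij : (i.val, j.val) ≠ (0, 0) := fun e => hg (by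
    rw [Prod.mk.injEq] at e
    rw [MonoidHom.mem_ker, hfg, show i = 0 from Fin.ext e.1, show j = 0 from Fin.ext e.2, rot_zero])
  have h27 := (hfix g i j hm).trans (fix_counts i j hij).1
  have himg : ∀ p ∈ f.range, ∃ i j, p = rot i j := by
    rintro _ ⟨x, rfl⟩
    obtain ⟨a, b, -, e⟩ := hf x
    exact ⟨a, b, e⟩
  have h9 : Nat.card f.range ≤ 9 := by
    classical
    have : ∀ p : f.range, ∃ x : Fin 3 × Fin 3, p.1 = rot x.1 x.2 := fun p => by
      obtain ⟨a, b, e⟩ := himg p.1 p.2; exact ⟨(a, b), e⟩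
    choose φ hφ using this
    refine (Nat.card_le_card_of_injective φ fun p q e => Subtype.ext (by rw [hφ p, hφ q, e])).trans ?_
    rw [Nat.card_prod, Nat.card_fin]
  have hr : Nat.card f.range = 9 := by
    have : 243 ≤ 27 * Nat.card f.range := hmul ▸ Nat.mul_le_mul_right _ h27
    omega
  have hall : rot 1 1 ∈ f.range := by
    have hle' : f.range ≤ Subgroup.closure (Set.range fun x : Fin 3 × Fin 3 => rot x.1 x.2) := fun p hp => by
      obtain ⟨a, b, e⟩ := himg p hp
      exact e ▸ Subgroup.subset_closure ⟨(a, b), rfl⟩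
    classical
    by_contra hno
    have h8 : ∀ p : f.range, ∃ x : {x : Fin 3 × Fin 3 // x ≠ (1, 1)}, p.1 = rot x.1.1 x.1.2 := fun p => by
      obtain ⟨a, b, e⟩ := himg p.1 p.2
      exact ⟨⟨(a, b), fun h => hno (by cases h; rw [← e]; exact p.2)⟩, e⟩
    choose φ hφ using h8
    have := Nat.card_le_card_of_injective φ fun p q e => Subtype.ext (by rw [hφ p, hφ q, e])
    rw [hr, Nat.card_eq_fintype_card] at this
    exact absurd this (by decide)
  obtain ⟨x, hx⟩ := hall
  obtain ⟨a, b, hxm, hfx⟩ := hf x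
  obtain ⟨rfl, rfl⟩ := rot_inj _ _ _ _ (hfx.symm.trans hx)
  have := (hfix x 1 1 hxm).trans ((fix_counts 1 1 (by decide)).2 (by decide) (by decide))
  rw [hr] at hmul
  omega

end CfsgLib.Sporadic.U43InSU62
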