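import Cfsg.Agent.Lib.Sporadic.U43InSU62.Main

/-!
# The three classes over any field with four elements
-/

set_option autoImplicit false

namespace CfsgLib.Sporadic.U43InSU62

/-- The conclusion is invariant under isomorphisms. -/
theorem move {A B : Type} [Group A] [Group B] (e : A ≃* B) (Q : Type) [Group Q]
    (h : ∃ K₁ K₂ K₃ : Subgroup A,
      (∀ K ∈ [K₁, K₂, K₃], Nat.card (Subgroup.center K) = 3 ∧ Nonempty (K ⧸ Subgroup.center K ≃* Q)) ∧
      (¬ ∃ g : A, K₁.map (MulAut.conj g).toMonoidHom = K₂) ∧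
      (¬ ∃ g : A, K₁.map (MulAut.conj g).toMonoidHom = K₃) ∧
      (¬ ∃ g : A, K₂.map (MulAut.conj g).toMonoidHom = K₃) ∧
      ∀ K : Subgroup A, Nat.card (Subgroup.center K) = 3 → Nonempty (K ⧸ Subgroup.center K ≃* Q) →
        ∃ g : A, K.map (MulAut.conj g).toMonoidHom = K₁ ∨ K.map (MulAut.conj g).toMonoidHom = K₂ ∨
          K.map (MulAut.conj g).toMonoidHom = K₃) :
    ∃ K₁ K₂ K₃ : Subgroup B,
      (∀ K ∈ [K₁, K₂, K₃], Nat.card (Subgroup.center K) = 3 ∧ Nonempty (K ⧸ Subgroup.center K ≃* Q)) ∧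
      (¬ ∃ g : B, K₁.map (MulAut.conj g).toMonoidHom = K₂) ∧
      (¬ ∃ g : B, K₁.map (MulAut.conj g).toMonoidHom = K₃) ∧
      (¬ ∃ g : B, K₂.map (MulAut.conj g).toMonoidHom = K₃) ∧
      ∀ K : Subgroup B, Nat.card (Subgroup.center K) = 3 → Nonempty (K ⧸ Subgroup.center K ≃* Q) →
        ∃ g : B, K.map (MulAut.conj g).toMonoidHom = K₁ ∨ K.map (MulAut.conj g).toMonoidHom = K₂ ∨
          K.map (MulAut.conj g).toMonoidHom = K₃ := by
  obtain ⟨K₁, K₂, K₃, h1, h12, h13, h23, hall⟩ := h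
  let P : ∀ {G : Type} [Group G], Subgroup G → Prop := fun {G} _ K =>
    Nat.card (Subgroup.center K) = 3 ∧ Nonempty (K ⧸ Subgroup.center K ≃* Q)
  have hiso : ∀ {G H : Type} [Group G] [Group H] (f : G ≃* H), Nat.card (Subgroup.center G) = 3 ∧
      Nonempty (G ⧸ Subgroup.center G ≃* Q) → Nat.card (Subgroup.center H) = 3 ∧
      Nonempty (H ⧸ Subgroup.center H ≃* Q) := fun {G H} _ _ f ⟨hc, ⟨i⟩⟩ =>
    ⟨(centre_card f).trans hc, ⟨((QuotientGroup.congr (Subgroup.center G) (Subgroup.center H) f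
      (Subgroup.ext fun x => by
        rw [Subgroup.mem_map]
        constructor
        · rintro ⟨y, hy, rfl⟩
          exact (centre_mem f _).1 (by simpa using hy)
        · intro hx
          exact ⟨f.symm x, (centre_mem f x).2 hx, by simp⟩)).symm).trans i⟩⟩
  have hP : ∀ K : Subgroup A, P K → P (K.map e.toMonoidHom) := fun K hK => hiso (e.subgroupMap K) hK
  have hP' : ∀ K : Subgroup B, P K → P (K.map e.symm.toMonoidHom) := fun K hK => hiso (e.symm.subgroupMap K) hK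
  have hback : ∀ K : Subgroup B, (K.map e.symm.toMonoidHom).map e.toMonoidHom = K := fun K => by
    rw [Subgroup.map_map, show e.toMonoidHom.comp e.symm.toMonoidHom = MonoidHom.id B from
      MonoidHom.ext e.apply_symm_apply, Subgroup.map_id]
  have hcj : ∀ (K : Subgroup A) (g : A), (K.map (MulAut.conj g).toMonoidHom).map e.toMonoidHom =
      (K.map e.toMonoidHom).map (MulAut.conj (e g)).toMonoidHom := fun K g => by
    rw [Subgroup.map_map, Subgroup.map_map]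
    congr 1
    ext x
    simp
  have hno : ∀ {X Y : Subgroup A}, (¬ ∃ g : A, X.map (MulAut.conj g).toMonoidHom = Y) →
      ¬ ∃ g : B, (X.map e.toMonoidHom).map (MulAut.conj g).toMonoidHom = Y.map e.toMonoidHom := by
    rintro X Y hn ⟨g, hg⟩
    obtain ⟨g, rfl⟩ := e.surjective g
    rw [← hcj] at hg
    exact hn ⟨g, Subgroup.map_injective e.injective hg⟩
  refine ⟨_, _, _, fun K hK => ?_, hno h12, hno h13, hno h23, fun K hc hq => ?_⟩
  · simp only [List.mem_cons, List.not_mem_nil, or_false] at hK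
    rcases hK with rfl | rfl | rfl <;> exact hP _ (h1 _ (by simp))
  · obtain ⟨hc', hq'⟩ := hP' K ⟨hc, hq⟩
    obtain ⟨g, hg⟩ := hall _ hc' hq'
    refine ⟨e g, ?_⟩
    rcases hg with hg | hg | hg
    exacts [Or.inl (by rw [← hg, hcj, hback]), Or.inr (Or.inl (by rw [← hg, hcj, hback])),
      Or.inr (Or.inr (by rw [← hg, hcj, hback]))]

theorem transfer (F : Type) [Field F] [Fintype F] (hF : Fintype.card F = 4) (F9 : Type) [Field F9] [Fintype F9]
    (hF9 : Fintype.card F9 = 9) :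
    ∃ K₁ K₂ K₃ : Subgroup ↥(Cfsg.SU 6 F 2),
      (∀ K ∈ [K₁, K₂, K₃], Nat.card ↥(Subgroup.center ↥K) = 3 ∧
        Nonempty (↥K ⧸ Subgroup.center ↥K ≃* Cfsg.PSU 4 F9 3)) ∧
      (¬ ∃ g : ↥(Cfsg.SU 6 F 2), K₁.map (MulAut.conj g).toMonoidHom = K₂) ∧
      (¬ ∃ g : ↥(Cfsg.SU 6 F 2), K₁.map (MulAut.conj g).toMonoidHom = K₃) ∧
      (¬ ∃ g : ↥(Cfsg.SU 6 F 2), K₂.map (MulAut.conj g).toMonoidHom = K₃) ∧
      ∀ K : Subgroup ↥(Cfsg.SU 6 F 2), Nat.card ↥(Subgroup.center ↥K) = 3 →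
        Nonempty (↥K ⧸ Subgroup.center ↥K ≃* Cfsg.PSU 4 F9 3) →
        ∃ g : ↥(Cfsg.SU 6 F 2), K.map (MulAut.conj g).toMonoidHom = K₁ ∨ K.map (MulAut.conj g).toMonoidHom = K₂ ∨
          K.map (MulAut.conj g).toMonoidHom = K₃ :=
  move (CfsgLib.Chevalley.G2Two.suCongr (FiniteField.ringEquivOfCardEq (FieldFour.card_eq.trans hF.symm)) 6 2) _
    (main F9 hF9)

end CfsgLib.Sporadic.U43InSU62
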